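import Groth.Agent.Lib.BlowCoh8.Geom

/-!
# Čech cocycles on the blow-up of an affine scheme
-/

set_option autoImplicit false
set_option backward.isDefEq.respectTransparency false
set_option linter.style.haveILetI false

universe u

open CategoryTheory AlgebraicGeometry TopologicalSpace Opposite

namespace GrothLib.BlowCoh8

open GrothLib.BlowUp17 GrothLib.KoszulColon

noncomputable section

variable {A : Type u} [CommRing A] {Y : Scheme.{u}} {f : Y ⟶ Spec (CommRingCat.of A)}
  {n : ℕ} {a : Fin (n + 1) → A} (C : Charts f a)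

theorem rng_nonempty {p : ℕ} (t : Fin (p + 1) → Fin (n + 1)) : (rng t).Nonempty :=
  ⟨t 0, Finset.mem_image_of_mem _ (Finset.mem_univ _)⟩

theorem mem_rng {p : ℕ} (t : Fin (p + 1) → Fin (n + 1)) : t 0 ∈ rng t :=
  Finset.mem_image_of_mem _ (Finset.mem_univ _)

/-- The restriction to a smaller piece. -/
abbrev res {S T : Finset (Fin (n + 1))} (h : S ⊆ T) : Γ(Y, C.W S) →+* Γ(Y, C.W T) :=
  (Y.presheaf.map (homOfLE (C.W_anti h)).op).hom

theorem ev_res {S T : Finset (Fin (n + 1))} (h : S ⊆ T) {x : Lau A (n + 1)} (hx : x ∈ sup A S 0) :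
    ev a (phi f (C.W T)) x = res C h (ev a (phi f (C.W S)) x) := by
  have key : ∀ (φ : A →+* Γ(Y, C.W T)), Good a φ T → φ = (res C h).comp (phi f (C.W S)) →
      ev a φ x = res C h (ev a (phi f (C.W S)) x) := by
    rintro _ h' rfl
    exact ev_comp (C.good_W S) _ h' h hx
  exact key _ (C.good_W T) (phi_res f (C.W_anti h)).symm

theorem ev_zero_of_mem_smul {S : Finset (Fin (n + 1))} (m : ℕ) (w : W A S (m : ℤ))
    (hw : w ∈ Ideal.span (Set.range (gg a)) • (⊤ : Submodule (MvPolynomial (Fin (n + 1)) A) (W A S (m : ℤ)))) :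
    ev a (phi f (C.W S)) (w : Lau A (n + 1)) = 0 := by
  refine Submodule.smul_induction_on hw (fun p hp v _ => ?_) fun v v' hv hv' => ?_
  · rw [Submodule.coe_smul, smul_lau, ev_mul (C.good_W S)
      (sup_mono (Finset.empty_subset S) le_rfl (toLau_mem_sup p)) (sup_mono (le_refl S) (by omega) v.2),
      ev_toLau (C.good_W S)]
    have hle : Ideal.span (Set.range (gg a)) ≤
        RingHom.ker (MvPolynomial.eval₂Hom (phi f (C.W S)) fun k => phi f (C.W S) (a k)) := by
      rw [Ideal.span_le]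
      rintro _ ⟨k, rfl⟩
      show MvPolynomial.eval₂Hom (phi f (C.W S)) _ (gg a k) = 0
      simp [gg]
    rw [show MvPolynomial.eval₂ (phi f (C.W S)) (fun k => phi f (C.W S) (a k)) p = 0 from hle hp, zero_mul]
  · rw [Submodule.coe_add, map_add, hv, hv', add_zero]

theorem exists_lift (ha : LCI.IsKoszulRegularSeq A (List.ofFn a)) {S : Finset (Fin (n + 1))} {i : Fin (n + 1)}
    (hi : i ∈ S) (m : ℕ) {y : Γ(Y, C.W S)} (hy : y ∈ Ideal.span {phi f (C.W S) (a i) ^ m}) :
    ∃ w : W A S (m : ℤ), ev a (phi f (C.W S)) (w : Lau A (n + 1)) = y := by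
  obtain ⟨z, rfl⟩ := Ideal.mem_span_singleton'.1 hy
  obtain ⟨q, rfl⟩ := (C.surjective_ker_W ha hi).1 z
  refine ⟨twist hi (m : ℤ) q, ?_⟩
  have hm : (m : ℤ) • ee i ∈ Om S 0 := by
    refine ⟨fun k hk => ?_, by rw [tot_smul, tot_ee]; omega⟩
    rcases eq_or_ne k i with hki | hki
    · exact hki ▸ hi
    · simp [ee, hki] at hk
  show ev a _ (mon ((m : ℤ) • ee i) * (q : Lau A (n + 1))) = _
  rw [ev_mul (C.good_W S) (mon_mem_sup hm) q.2, mul_comm, evQ_apply]
  congr 1
  rw [mon, ev_single, map_one, one_mul]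
  refine val_eq (C.good_W S) hm.1 ?_
  induction m with
  | zero => simpa using isVal_zero (a := a) (φ := phi f (C.W S))
  | succ m ih =>
    have hm' : (m : ℤ) • ee i ∈ Om S 0 := by
      refine ⟨fun k hk => ?_, by rw [tot_smul, tot_ee]; omega⟩
      rcases eq_or_ne k i with hki | hki
      · exact hki ▸ hi
      · simp [ee, hki] at hk
    rw [pow_succ, Nat.cast_succ, add_smul, one_smul]
    exact isVal_add (C.good_W S) hm'.1 (ee_mem_Om S i).1
      (ih (Ideal.mem_span_singleton'.2 ⟨_, rfl⟩) hm') (isVal_ee i)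

theorem mem_smul_of_ev_eq_zero (ha : LCI.IsKoszulRegularSeq A (List.ofFn a)) {S : Finset (Fin (n + 1))}
    {i : Fin (n + 1)} (hi : i ∈ S) (m : ℕ) (w : W A S (m : ℤ))
    (hw : ev a (phi f (C.W S)) (w : Lau A (n + 1)) = 0) :
    w ∈ Ideal.span (Set.range (gg a)) • (⊤ : Submodule (MvPolynomial (Fin (n + 1)) A) (W A S (m : ℤ))) := by
  obtain ⟨q, rfl⟩ := (twist hi (m : ℤ)).surjective w
  refine map_mem_smul_top (twist hi (m : ℤ)).toLinearMap ?_
  rw [Ideal.smul_top_eq_map]
  show q ∈ (Ideal.span (Set.range (gg a))).map (algebraMap (MvPolynomial (Fin (n + 1)) A) (Q A S))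
  rw [← (C.surjective_ker_W ha hi).2, RingHom.mem_ker]
  have hm : (m : ℤ) • ee i ∈ Om S 0 := by
    refine ⟨fun k hk => ?_, by rw [tot_smul, tot_ee]; omega⟩
    rcases eq_or_ne k i with hki | hki
    · exact hki ▸ hi
    · simp [ee, hki] at hk
  change ev a _ (mon ((m : ℤ) • ee i) * (q : Lau A (n + 1))) = 0 at hw
  rw [ev_mul (C.good_W S) (mon_mem_sup hm) q.2] at hw
  refine (mul_left_mem_nonZeroDivisors_eq_zero_iff ?_).1 hw
  have hv := isVal_val (C.good_W S) hm
  rw [mon, ev_single, map_one, one_mul]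
  unfold IsVal at hv
  rw [show num a (phi f (C.W S)) (-((m : ℤ) • ee i)) = 1 from Finset.prod_eq_one fun l _ => by
    rcases eq_or_ne l i with hl | hl <;> simp [ee, hl], mul_one] at hv
  rw [hv]
  refine prod_mem fun l _ => ?_
  rcases eq_or_ne l i with hl | hl
  · exact pow_mem (hl ▸ (C.good_W S).nzd i hi) _
  · simp [ee, hl]

theorem mem_smul_pi {p : ℕ} (m : ℤ) (x : DD A (n + 1) m p)
    (hx : ∀ t, x t ∈ Ideal.span (Set.range (gg a)) • (⊤ : Submodule (MvPolynomial (Fin (n + 1)) A) (W A (rng t) m))) :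
    x ∈ Ideal.span (Set.range (gg a)) • (⊤ : Submodule (MvPolynomial (Fin (n + 1)) A) (DD A (n + 1) m p)) := by
  classical
  rw [← Finset.univ_sum_single x]
  exact Submodule.sum_mem _ fun t _ =>
    map_mem_smul_top (LinearMap.single (MvPolynomial (Fin (n + 1)) A) (fun t : Fin p → Fin (n + 1) => W A (rng t) m) t) (hx t)

theorem ev_dd {p m : ℕ} (x : DD A (n + 1) (m : ℤ) p) (t : Fin (p + 1) → Fin (n + 1)) :
    ev a (phi f (C.W (rng t))) (dd A (n + 1) (m : ℤ) p x t : Lau A (n + 1)) =
      ∑ j : Fin (p + 1), (-1 : ℤ) ^ (j : ℕ) • res C (rng_comp_subset t j.succAbove)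
        (ev a (phi f (C.W (rng (t ∘ j.succAbove)))) (x (t ∘ j.succAbove) : Lau A (n + 1))) := by
  rw [dd_apply, map_sum]
  refine Finset.sum_congr rfl fun j _ => ?_
  rw [map_zsmul, ev_res C (rng_comp_subset t j.succAbove) (sup_mono (le_refl _) (by omega) (x _).2)]

/-- Cochains of sections. -/
def IsCoch (m p : ℕ) (y : ∀ t : Fin (p + 1) → Fin (n + 1), Γ(Y, C.W (rng t))) : Prop :=
  ∀ t, y t ∈ Ideal.span {phi f (C.W (rng t)) (a (t 0)) ^ m}

theorem exists_model (ha : LCI.IsKoszulRegularSeq A (List.ofFn a)) (m p : ℕ)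
    (y : ∀ t : Fin (p + 1) → Fin (n + 1), Γ(Y, C.W (rng t))) (hy : IsCoch C m p y)
    (hd : ∀ t : Fin (p + 2) → Fin (n + 1), ∑ j : Fin (p + 2), (-1 : ℤ) ^ (j : ℕ) •
      res C (rng_comp_subset t j.succAbove) (y (t ∘ j.succAbove)) = 0) :
    ∃ z : DD A (n + 1) (m : ℤ) p, ∀ t, y t = ev a (phi f (C.W (rng t))) (dd A (n + 1) (m : ℤ) p z t : Lau A (n + 1)) := by
  choose x hx using fun t => exists_lift C ha (mem_rng t) m (hy t)
  let x' : DD A (n + 1) (m : ℤ) (p + 1) := x
  obtain ⟨z, hz⟩ := exists_sub_mem a ha (m := (m : ℤ)) (by omega) p x' (mem_smul_pi _ _ fun t =>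
    mem_smul_of_ev_eq_zero C ha (mem_rng t) m _ (by
      rw [ev_dd]
      simp only [x', hx]
      exact hd t))
  refine ⟨z, fun t => ?_⟩
  have h := ev_zero_of_mem_smul C m _ (map_mem_smul_top
    (LinearMap.proj (R := MvPolynomial (Fin (n + 1)) A) (φ := fun t : Fin (p + 1) → Fin (n + 1) => W A (rng t) (m : ℤ)) t) hz)
  rw [LinearMap.proj_apply, Pi.sub_apply, Submodule.coe_sub, map_sub, sub_eq_zero] at h
  rw [← h]
  exact (hx t).symm

theorem isCoch_ev {S : Finset (Fin (n + 1))} {i : Fin (n + 1)} (hi : i ∈ S) (m : ℕ) (w : W A S (m : ℤ)) :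
    ev a (phi f (C.W S)) (w : Lau A (n + 1)) ∈ Ideal.span {phi f (C.W S) (a i) ^ m} := by
  obtain ⟨q, rfl⟩ := (twist hi (m : ℤ)).surjective w
  have hm : (m : ℤ) • ee i ∈ Om S 0 := by
    refine ⟨fun k hk => ?_, by rw [tot_smul, tot_ee]; omega⟩
    rcases eq_or_ne k i with hki | hki
    · exact hki ▸ hi
    · simp [ee, hki] at hk
  show ev a _ (mon ((m : ℤ) • ee i) * (q : Lau A (n + 1))) ∈ _
  rw [ev_mul (C.good_W S) (mon_mem_sup hm) q.2]
  refine Ideal.mul_mem_right _ _ ?_
  rw [mon, ev_single, map_one, one_mul]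
  have hv := isVal_val (C.good_W S) hm
  unfold IsVal at hv
  rw [show num a (phi f (C.W S)) (-((m : ℤ) • ee i)) = 1 from Finset.prod_eq_one fun l _ => by
    rcases eq_or_ne l i with hl | hl <;> simp [ee, hl], mul_one] at hv
  rw [hv, num, Finset.prod_eq_single i (fun l _ hl => by simp [ee, hl]) (fun h => absurd (Finset.mem_univ i) h)]
  simpa [ee] using Ideal.mem_span_singleton_self _

/-- Cocycles of positive degree are coboundaries. -/
theorem exists_coboundary (ha : LCI.IsKoszulRegularSeq A (List.ofFn a)) (m p : ℕ)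
    (y : ∀ t : Fin (p + 2) → Fin (n + 1), Γ(Y, C.W (rng t))) (hy : IsCoch C m (p + 1) y)
    (hd : ∀ t : Fin (p + 3) → Fin (n + 1), ∑ j : Fin (p + 3), (-1 : ℤ) ^ (j : ℕ) •
      res C (rng_comp_subset t j.succAbove) (y (t ∘ j.succAbove)) = 0) :
    ∃ z : ∀ t : Fin (p + 1) → Fin (n + 1), Γ(Y, C.W (rng t)), IsCoch C m p z ∧
      ∀ t, y t = ∑ j : Fin (p + 2), (-1 : ℤ) ^ (j : ℕ) • res C (rng_comp_subset t j.succAbove) (z (t ∘ j.succAbove)) := by
  obtain ⟨z, hz⟩ := exists_model C ha m (p + 1) y hy hd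
  exact ⟨fun t => ev a (phi f (C.W (rng t))) (z t : Lau A (n + 1)), fun t => isCoch_ev C (mem_rng t) m (z t),
    fun t => (hz t).trans (ev_dd C z t)⟩

/-- Cocycles of degree zero come from the powers of the centre. -/
theorem exists_global (ha : LCI.IsKoszulRegularSeq A (List.ofFn a)) (m : ℕ)
    (y : ∀ t : Fin 1 → Fin (n + 1), Γ(Y, C.W (rng t))) (hy : IsCoch C m 0 y)
    (hd : ∀ t : Fin 2 → Fin (n + 1), ∑ j : Fin 2, (-1 : ℤ) ^ (j : ℕ) •
      res C (rng_comp_subset t j.succAbove) (y (t ∘ j.succAbove)) = 0) :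
    ∃ x ∈ ctr a ^ m, ∀ t, y t = phi f (C.W (rng t)) x := by
  classical
  obtain ⟨z, hz⟩ := exists_model C ha m 0 y hy hd
  let w : Lau A (n + 1) := (z default : Lau A (n + 1))
  have hw : w ∈ sup A (∅ : Finset (Fin (n + 1))) (m : ℤ) := by
    have h := (z default).2
    exact sup_mono (by simp [rng]) le_rfl h
  have hex : ∃ x ∈ ctr a ^ m, ∀ t : Fin 1 → Fin (n + 1), ev a (phi f (C.W (rng t))) w = phi f (C.W (rng t)) x := by
    refine induction_sup (motive := fun w => ∃ x ∈ ctr a ^ m, ∀ t : Fin 1 → Fin (n + 1),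
      ev a (phi f (C.W (rng t))) w = phi f (C.W (rng t)) x) hw ⟨0, Submodule.zero_mem _, by simp⟩ ?_ ?_
    · rintro v v' ⟨x, hx, e⟩ ⟨x', hx', e'⟩
      exact ⟨x + x', Submodule.add_mem _ hx hx', fun t => by rw [map_add, map_add, e, e']⟩
    · intro e he r
      have hpos : ∀ k, 0 ≤ e k := fun k => not_lt.1 fun hk => absurd (he.1 k hk) (by simp)
      refine ⟨r * ∏ k, a k ^ (e k).toNat, Ideal.mul_mem_left _ _ ?_, fun t => ?_⟩
      · refine (Ideal.pow_le_pow_right (I := ctr a) (n := ∑ k, (e k).toNat) (m := m) ?_) ?_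
        · have h1 : ((∑ k, (e k).toNat : ℕ) : ℤ) = tot e := by
            push_cast
            exact Finset.sum_congr rfl fun k _ => by have := hpos k; omega
          have := he.2
          omega
        · rw [← Finset.prod_pow_eq_pow_sum]
          refine Ideal.prod_mem_prod fun k _ => Ideal.pow_mem_pow (I := ctr a) ?_ _
          exact Ideal.subset_span (Set.mem_range_self k)
      · rw [ev_single, map_mul]
        congr 1
        refine val_eq (C.good_W (rng t)) (fun k hk => absurd hk (not_lt.2 (hpos k))) ?_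
        show _ * num a _ (-e) = num a _ e
        rw [map_prod, show num a (phi f (C.W (rng t))) (-e) = 1 from Finset.prod_eq_one fun k _ => by
          rw [show ((-e) k).toNat = 0 by rw [Pi.neg_apply]; have := hpos k; omega, pow_zero], mul_one, num]
        simp only [map_pow]
  obtain ⟨x, hx, hxt⟩ := hex
  refine ⟨x, hx, fun t => ?_⟩
  rw [hz t, dd_apply, Fin.sum_univ_one, Fin.val_zero, pow_zero, one_smul,
    show (t ∘ Fin.succAbove 0) = default from Subsingleton.elim _ _]
  exact hxt t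

include C in
/-- The centre has no annihilator, so functions vanishing on all charts vanish. -/
theorem eq_zero_of_forall (ha : LCI.IsKoszulRegularSeq A (List.ofFn a)) (x : A)
    (hx : ∀ i, phi f (C.V i) x = 0) : x = 0 := by
  classical
  choose M hM using fun i => C.ker i x (hx i)
  have key : ∀ z : A, (∀ k, a k * z = 0) → z = 0 := by
    intro z hz
    let γ : Module.Dual A A := LinearMap.id
    let l := List.ofFn a
    let q : ℤ := -(n + 1 : ℕ)
    have hlen : q + l.length = 0 := by simp [q, l]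
    have hex := isKoszulRegularSeq_iff_gen ha
    obtain ⟨τ, hτ⟩ := exists_coord γ l q hlen
    have hcyc : ((kc γ l).d q (q + 1)).hom (z • gen γ l q hlen) = 0 := by
      rw [map_smul]
      have h := d_mem γ l q (q + 1) rfl (gen γ l q hlen)
      refine Submodule.smul_induction_on h (fun b hb v _ => ?_) fun v v' hv hv' => by rw [smul_add, hv, hv', add_zero]
      rw [smul_smul]
      have hle : Ideal.span {b | b ∈ l.map γ} ≤ LinearMap.ker (LinearMap.mulLeft A z) := by
        refine Ideal.span_le.2 fun b hb => ?_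
        obtain ⟨b', hb', rfl⟩ := List.mem_map.1 hb
        obtain ⟨k, rfl⟩ := List.mem_ofFn.1 hb'
        show z * a k = 0
        rw [mul_comm, hz]
      rw [show z * b = 0 from hle hb, zero_smul]
    obtain ⟨w, hw⟩ := hex q (by omega) (z • gen γ l q hlen) hcyc
    rw [eq_zero_out γ l (q - 1) (Or.inr (by omega)) w, map_zero] at hw
    have := congrArg τ hw
    rwa [map_zero, map_smul, hτ, smul_eq_mul, mul_one, eq_comm] at this
  have main : ∀ (N : ℕ) (M : Fin (n + 1) → ℕ) (z : A), ∑ i, M i ≤ N → (∀ i, a i ^ M i * z = 0) → z = 0 := by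
    intro N
    induction N with
    | zero =>
      intro M z hN h
      have := h 0
      rwa [show M 0 = 0 by
        have := Finset.single_le_sum (fun i _ => Nat.zero_le (M i)) (Finset.mem_univ (0 : Fin (n + 1))); omega,
        pow_zero, one_mul] at this
    | succ N ih =>
      intro M z hN h
      refine key z fun k => ?_
      by_cases hk : M k = 0
      · have := h k
        rw [hk, pow_zero, one_mul] at this
        rw [this, mul_zero]
      · refine ih (Function.update M k (M k - 1)) _ ?_ fun i => ?_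
        · have h1 := Finset.sum_update_of_mem (Finset.mem_univ k) M (M k - 1)
          have h2 := Finset.add_sum_erase Finset.univ M (Finset.mem_univ k)
          rw [Finset.erase_eq] at h2
          omega
        · rcases eq_or_ne i k with hik | hik
          · subst hik
            rw [Function.update_self, ← mul_assoc, ← pow_succ, show M i - 1 + 1 = M i by omega]
            exact h i
          · rw [Function.update_of_ne hik, mul_left_comm, h i, mul_zero]
  exact main _ M x le_rfl hM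
where
  isKoszulRegularSeq_iff_gen {A : Type u} [CommRing A] {l : List A} (h : LCI.IsKoszulRegularSeq A l) :
      ∀ j : ℤ, j ≠ 0 → ∀ x : (kc (LinearMap.id : Module.Dual A A) l).X j,
        ((kc (LinearMap.id : Module.Dual A A) l).d j (j + 1)).hom x = 0 →
        ∃ y, ((kc (LinearMap.id : Module.Dual A A) l).d (j - 1) j).hom y = x := by
    have hl : kc (LinearMap.id : Module.Dual A A) l = Koszul.koszul A l := congrArg _ (List.map_id l)
    rw [hl]
    exact (GrothLib.LCI6.isKoszulRegularSeq_iff l).1 h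

end

end GrothLib.BlowCoh8
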