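import Groth.Agent.Lib.BlowCoh8.Laurent
import Groth.Agent.Lib.PerfBlow28.Chart
import Groth.Agent.Lib.LCI6.Locus
import Groth.Agent.Lib.KoszulColon.Append
import Mathlib.Algebra.MvPolynomial.Equiv
import Mathlib.Algebra.Polynomial.Monic
import Mathlib.RingTheory.Polynomial.Quotient

/-!
# The Koszul complexes of the pieces are exact
-/

set_option autoImplicit false
set_option backward.isDefEq.respectTransparency false

universe u

open MvPolynomial

namespace GrothLib.BlowCoh8

open GrothLib.KoszulColon GrothLib.LCI6 GrothLib.PerfBlow28 GrothLib.BlowUpBC12 GrothLib.BlowUp17 GrothLib.BlowUp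

noncomputable section

variable {A : Type u} [CommRing A] {n : ℕ} (a : Fin (n + 1) → A) (i : Fin (n + 1))

/-- The model of the chart with the scaling variable. -/
abbrev PM : Type u := Polynomial (MvPolynomial (Var i) A)

/-- The equations on the model. -/
def hM (k : Fin (n + 1)) : PM (A := A) i :=
  Polynomial.X * Polynomial.C (xv i k) - Polynomial.C (C (a k))

theorem hM_self : hM a i i = Polynomial.X - Polynomial.C (C (a i)) := by
  simp [hM, xv]

theorem isKoszulRegularSeq_hM (ha : LCI.IsKoszulRegularSeq A (List.ofFn a)) :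
    LCI.IsKoszulRegularSeq (PM (A := A) i) (List.ofFn (hM a i)) := by
  classical
  let w : PM (A := A) i := Polynomial.X - Polynomial.C (C (a i))
  let h' : Fin (n + 1) → PM (A := A) i := fun k => if k = i then w else Polynomial.C (eqs a i k)
  have hL : LCI.IsKoszulRegularSeq (PM (A := A) i)
      (List.ofFn fun k : Fin n => Polynomial.C (eqs a i (num i k).1)) := by
    have := GrothLib.KoszulColon.isKoszulRegularSeq_map (Polynomial.C : MvPolynomial (Var i) A →+* _)
      (RingHom.flat_algebraMap_iff.mpr
        (inferInstance : Module.Flat (MvPolynomial (Var i) A) (Polynomial (MvPolynomial (Var i) A))))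
      _ (isKoszulRegularSeq_chart a i ha)
    rwa [List.map_ofFn] at this
  have hσ : h' ∘ (Equiv.swap 0 i) = Fin.cons w (fun k : Fin n => Polynomial.C (eqs a i (num i k).1)) := by
    funext k
    refine Fin.cases ?_ (fun k => ?_) k
    · simp [h']
    · have hne : Equiv.swap 0 i k.succ ≠ i := (num i k).2
      simp only [h', Function.comp_apply, if_neg hne, Fin.cons_succ]
      rfl
  have h1 : LCI.IsKoszulRegularSeq (PM (A := A) i) (List.ofFn (h' ∘ Equiv.swap 0 i)) := by
    rw [hσ, List.ofFn_cons]
    refine isKoszulRegularSeq_append _ [w] hL ?_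
    rw [List.map_singleton]
    refine (?_ : LCI.IsKoszulRegularSeq _ (List.ofFn fun _ : Fin 1 =>
      Ideal.Quotient.mk (Ideal.ofList (List.ofFn fun k : Fin n => Polynomial.C (eqs a i (num i k).1))) w))
    refine isKoszulRegularSeq_singleton _ fun x hx => ?_
    obtain ⟨q, rfl⟩ := Ideal.Quotient.mk_surjective x
    have hJ : Ideal.ofList (List.ofFn fun k : Fin n => Polynomial.C (eqs a i (num i k).1)) =
        (Ideal.ofList (List.ofFn fun k : Fin n => eqs a i (num i k).1)).map Polynomial.C := by
      rw [Ideal.map_ofList, List.map_ofFn]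
      rfl
    rw [← map_mul, Ideal.Quotient.eq_zero_iff_mem, hJ] at hx
    rw [Ideal.Quotient.eq_zero_iff_mem, hJ]
    set J := Ideal.ofList (List.ofFn fun k : Fin n => eqs a i (num i k).1)
    have hker : ∀ f : PM (A := A) i, f ∈ J.map Polynomial.C ↔ f.map (Ideal.Quotient.mk J) = 0 := by
      intro f
      rw [Ideal.mem_map_C_iff, Polynomial.ext_iff]
      simp only [Polynomial.coeff_map, Polynomial.coeff_zero, Ideal.Quotient.eq_zero_iff_mem]
    rw [hker] at hx ⊢
    rw [Polynomial.map_mul, Polynomial.map_sub, Polynomial.map_X, Polynomial.map_C] at hx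
    exact (Polynomial.monic_X_sub_C _).mul_right_eq_zero_iff.1 hx
  have h2 : LCI.IsKoszulRegularSeq (PM (A := A) i) (List.ofFn h') := by
    have := isKoszulRegularSeq_perm (Equiv.swap 0 i) _ h1
    rwa [Function.comp_assoc, show (Equiv.swap 0 i : Fin (n + 1) → Fin (n + 1)) ∘ Equiv.swap 0 i = id from
      funext (Equiv.swap_apply_self 0 i), Function.comp_id] at this
  let T : Matrix (Fin (n + 1)) (Fin (n + 1)) (PM (A := A) i) := Matrix.of fun k l =>
    if k = i then (if l = i then 1 else 0)
    else (if l = k then -1 else 0) + (if l = i then Polynomial.C (xv i k) else 0)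
  have hT : ∀ (v : Fin (n + 1) → PM (A := A) i) (k), T.mulVec v k =
      if k = i then v i else -v k + Polynomial.C (xv i k) * v i := by
    intro v k
    by_cases hk : k = i
    · simp [T, Matrix.mulVec, dotProduct, hk]
    · simp [T, Matrix.mulVec, dotProduct, hk, add_mul, Finset.sum_add_distrib]
      exact neg_one_mul (v k)
  have hTT : T * T = 1 := by
    refine Matrix.toLin'.injective (LinearMap.ext fun v => ?_)
    rw [Matrix.toLin'_apply, ← Matrix.mulVec_mulVec, Matrix.toLin'_one, LinearMap.id_apply]
    funext k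
    rw [hT]
    by_cases hk : k = i
    · rw [if_pos hk, hT, if_pos rfl, hk]
    · rw [if_neg hk, hT, hT, if_neg hk, if_pos rfl]
      ring
  have h3 := isKoszulRegularSeq_mulVec T (Matrix.isUnit_det_of_right_inverse (B := T) hTT) _ h2
  rwa [show T.mulVec h' = hM a i from funext fun k => ?_] at h3
  rw [hT]
  by_cases hk : k = i
  · simp [h', w, hk, hM_self]
  · rw [if_neg hk]
    simp only [h', if_neg hk, if_pos]
    simp only [w, hM, eqs, if_neg hk, map_sub, map_mul]
    ring

/-- The value of the variables of the model. -/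
def vv : Option (Var i) → (Fin (n + 1) → ℤ)
  | none => ee i
  | some k => ee k.1 - ee i

/-- The exponent of a monomial of the model. -/
def expo (m : Option (Var i) →₀ ℕ) : Fin (n + 1) → ℤ := ∑ j, (m j : ℤ) • vv i j

theorem expo_add (m m' : Option (Var i) →₀ ℕ) : expo i (m + m') = expo i m + expo i m' := by
  simp [expo, add_smul, Finset.sum_add_distrib]

theorem expo_single (j : Option (Var i)) : expo i (Finsupp.single j 1) = vv i j := by
  classical
  simp [expo, Finsupp.single_apply, ite_smul]

theorem expo_apply {k : Fin (n + 1)} (hk : k ≠ i) (m : Option (Var i) →₀ ℕ) :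
    expo i m k = m (some ⟨k, hk⟩) := by
  classical
  rw [expo, Finset.sum_apply, Finset.sum_eq_single (some ⟨k, hk⟩)]
  · simp [vv, ee, hk]
  · rintro (_ | ⟨j, hj⟩) - hne
    · simp [vv, ee, hk]
    · have : k ≠ j := fun h => hne (by subst h; rfl)
      simp [vv, ee, hk, this]
  · simp

theorem tot_smul (z : ℤ) (e : Fin (n + 1) → ℤ) : tot (z • e) = z * tot e := by
  simp [tot, Finset.mul_sum]

theorem tot_sub (e e' : Fin (n + 1) → ℤ) : tot (e - e') = tot e - tot e' := by
  simp [tot, Finset.sum_sub_distrib]

theorem tot_expo (m : Option (Var i) →₀ ℕ) : tot (expo i m) = m none := by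
  rw [expo, show tot (∑ j, (m j : ℤ) • vv i j) = ∑ j, tot ((m j : ℤ) • vv i j) by
    simp only [tot, Finset.sum_apply]; exact Finset.sum_comm]
  rw [Fintype.sum_option, Finset.sum_eq_zero fun j _ => by rw [tot_smul, vv, tot_sub, tot_ee, tot_ee]; simp]
  rw [tot_smul, vv, tot_ee, mul_one, add_zero]

theorem eq_of_eq_off {e e' : Fin (n + 1) → ℤ} (h : ∀ k, k ≠ i → e k = e' k) (ht : tot e = tot e') : e = e' := by
  classical
  funext k
  by_cases hk : k = i
  · subst hk
    have h1 : ∑ j ∈ Finset.univ.erase k, e j = ∑ j ∈ Finset.univ.erase k, e' j :=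
      Finset.sum_congr rfl fun j hj => h j (Finset.ne_of_mem_erase hj)
    have h2 := Finset.add_sum_erase Finset.univ e (Finset.mem_univ k)
    have h3 := Finset.add_sum_erase Finset.univ e' (Finset.mem_univ k)
    unfold tot at ht
    omega
  · exact h k hk

theorem expo_mem (m : Option (Var i) →₀ ℕ) : expo i m ∈ Om {i} 0 := by
  refine ⟨fun k hk => ?_, by rw [tot_expo]; omega⟩
  by_contra h
  rw [expo_apply i (fun hh => h (Finset.mem_singleton.2 hh)) m] at hk
  omega

theorem expo_injective : Function.Injective (expo i) := by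
  intro m m' h
  ext (_ | ⟨k, hk⟩)
  · have := congrArg tot h
    rw [tot_expo, tot_expo] at this
    exact_mod_cast this
  · have := congrFun h k
    rw [expo_apply i hk, expo_apply i hk] at this
    exact_mod_cast this

theorem exists_expo {e : Fin (n + 1) → ℤ} (he : e ∈ Om {i} 0) : ∃ m, expo i m = e := by
  refine ⟨Finsupp.equivFunOnFinite.symm (fun j => j.elim (tot e).toNat fun k => (e k.1).toNat), ?_⟩
  refine eq_of_eq_off i (fun k hk => ?_) ?_
  · rw [expo_apply i hk]
    have : ¬ e k < 0 := fun h => hk (Finset.mem_singleton.1 (he.1 k h))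
    simp only [Finsupp.coe_equivFunOnFinite_symm, Option.elim]
    omega
  · rw [tot_expo]
    have := he.2
    simp only [Finsupp.coe_equivFunOnFinite_symm, Option.elim]
    omega

/-- The parametrisation of the piece by the model. -/
def par : MvPolynomial (Option (Var i)) A →ₐ[A] Lau A (n + 1) := MvPolynomial.aeval fun j => mon (vv i j)

theorem par_monomial (m : Option (Var i) →₀ ℕ) (r : A) :
    par (A := A) i (monomial m r) = AddMonoidAlgebra.single (expo i m) r := by
  induction m using Finsupp.induction_linear generalizing r with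
  | zero =>
    rw [show (monomial (0 : Option (Var i) →₀ ℕ) r) = C r from rfl,
      show expo i (0 : Option (Var i) →₀ ℕ) = 0 by simp [expo], ← MvPolynomial.algebraMap_eq,
      AlgHom.commutes]
    rfl
  | add m m' hm hm' =>
    rw [show monomial (m + m') r = monomial m r * monomial m' (1 : A) by rw [monomial_mul, mul_one],
      map_mul, hm, hm', AddMonoidAlgebra.single_mul_single, mul_one, expo_add]
  | single j k =>
    rw [← C_mul_X_pow_eq_monomial, map_mul, map_pow, par, aeval_X, aeval_C]
    rw [show expo i (Finsupp.single j k) = k • vv i j by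
      classical simp [expo, Finsupp.single_apply, ite_smul]]
    rw [mon, AddMonoidAlgebra.single_pow, one_pow]
    show AddMonoidAlgebra.single 0 r * _ = _
    rw [AddMonoidAlgebra.single_mul_single, zero_add, mul_one]

theorem coeff_par (p : MvPolynomial (Option (Var i)) A) (m : Option (Var i) →₀ ℕ) :
    (par i p).coeff (expo i m) = coeff m p := by
  classical
  induction p using MvPolynomial.induction_on' with
  | monomial m' r =>
    rw [par_monomial, AddMonoidAlgebra.coeff_single, coeff_monomial, Finsupp.single_apply]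
    simp only [(expo_injective i).eq_iff]
  | add p q hp hq => rw [map_add, AddMonoidAlgebra.coeff_add, Finsupp.add_apply, coeff_add, hp, hq]

theorem par_injective : Function.Injective (par (A := A) i) := fun p q h =>
  MvPolynomial.ext _ _ fun m => by rw [← coeff_par, ← coeff_par, h]

/-- The pieces of degree at least zero, as algebras. -/
def Q (A : Type u) [CommRing A] {c : ℕ} (S : Finset (Fin c)) :
    Subalgebra (MvPolynomial (Fin c) A) (Lau A c) where
  carrier := sup A S 0
  mul_mem' hx hy := by simpa using mul_mem_sup (le_refl S) (le_refl S) hx hy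
  add_mem' := Submodule.add_mem _
  algebraMap_mem' p := sup_mono (Finset.empty_subset S) le_rfl (toLau_mem_sup p)

theorem par_mem (p : MvPolynomial (Option (Var i)) A) : par i p ∈ Q A {i} := by
  induction p using MvPolynomial.induction_on' with
  | monomial m r =>
    rw [par_monomial, ← mul_one r, ← smul_eq_mul, ← AddMonoidAlgebra.smul_single]
    exact Submodule.smul_mem (sup A {i} 0) r (mon_mem_sup (expo_mem i m))
  | add p q hp hq => rw [map_add]; exact add_mem hp hq

theorem par_range {x : Lau A (n + 1)} (hx : x ∈ Q A {i}) : ∃ p, par i p = x := by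
  rw [← AddMonoidAlgebra.sum_coeff_single x, Finsupp.sum]
  suffices ∀ e ∈ x.coeff.support, ∃ p, par (A := A) i p = AddMonoidAlgebra.single e (x.coeff e) by
    choose p hp using this
    refine ⟨∑ e ∈ x.coeff.support.attach, p e.1 e.2, ?_⟩
    rw [map_sum, Finset.sum_congr rfl fun e _ => hp e.1 e.2]
    exact Finset.sum_attach _ (fun e => AddMonoidAlgebra.single e (x.coeff e))
  intro e he
  obtain ⟨m, rfl⟩ := exists_expo i (AddMonoidAlgebra.mem_supported.1 hx he)
  exact ⟨_, par_monomial i m _⟩

/-- The model is the piece. -/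
def modelEquiv : MvPolynomial (Option (Var i)) A ≃+* Q A ({i} : Finset (Fin (n + 1))) :=
  RingEquiv.ofBijective ((par i).toRingHom.codRestrict (Q A {i}).toSubring (par_mem i))
    ⟨fun _ _ h => par_injective i (congrArg Subtype.val h), fun x => by
      obtain ⟨p, hp⟩ := par_range i x.2
      exact ⟨p, Subtype.ext hp⟩⟩

/-- The equations. -/
def gg (k : Fin (n + 1)) : MvPolynomial (Fin (n + 1)) A := X k - C (a k)

theorem isKoszulRegularSeq_gg (ha : LCI.IsKoszulRegularSeq A (List.ofFn a)) :
    LCI.IsKoszulRegularSeq (Q A {i})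
      ((List.ofFn (gg a)).map (algebraMap (MvPolynomial (Fin (n + 1)) A) (Q A {i}))) := by
  have h := isKoszulRegularSeq_equiv
    ((MvPolynomial.optionEquivLeft A (Var i)).symm.toRingEquiv.trans (modelEquiv i)) _
    (isKoszulRegularSeq_hM a i ha)
  rw [List.map_ofFn] at h ⊢
  refine Eq.mp (congrArg (fun l => LCI.IsKoszulRegularSeq _ (List.ofFn l)) (funext fun k => ?_)) h
  refine Subtype.ext ?_
  show par i ((MvPolynomial.optionEquivLeft A (Var i)).symm (hM a i k)) = toLau (gg a k)
  rw [hM, gg, map_sub, map_mul, map_sub, map_sub, map_mul]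
  have hC : ∀ r : A, (MvPolynomial.optionEquivLeft A (Var i)).symm (Polynomial.C (C r)) = C r := fun r => by
    rw [AlgEquiv.symm_apply_eq, optionEquivLeft_C]
  have hX : (MvPolynomial.optionEquivLeft A (Var i)).symm Polynomial.X = X none := by
    rw [AlgEquiv.symm_apply_eq, optionEquivLeft_X_none]
  rw [hC, hX, par, aeval_C, aeval_X, toLau, aeval_C, aeval_X]
  congr 1
  by_cases hk : k = i
  · subst hk
    rw [xv, dif_pos rfl, map_one, map_one, map_one, mul_one]
    rfl
  · rw [xv, dif_neg hk, show (MvPolynomial.optionEquivLeft A (Var i)).symm (Polynomial.C (X ⟨k, hk⟩)) = X (some ⟨k, hk⟩) by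
      rw [AlgEquiv.symm_apply_eq, optionEquivLeft_X_some], aeval_X]
    show mon (ee i) * mon (ee k - ee i) = mon (ee k)
    rw [mon_mul, add_sub_cancel]

theorem Q_mono {c : ℕ} {S T : Finset (Fin c)} (h : S ⊆ T) : Q A S ≤ Q A T := fun _ hx => sup_mono h le_rfl hx

theorem mem_Q_iff {c : ℕ} {S : Finset (Fin c)} {x : Lau A c} : x ∈ Q A S ↔ x ∈ sup A S 0 := Iff.rfl

/-- The product of the ratios over `S`. -/
def ratio (S : Finset (Fin (n + 1))) : Fin (n + 1) → ℤ := ∑ k ∈ S, (ee k - ee i)

theorem tot_ratio (S : Finset (Fin (n + 1))) : tot (ratio i S) = 0 := by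
  classical
  unfold ratio
  induction S using Finset.induction_on with
  | empty => simp [tot]
  | insert k S hk ih => rw [Finset.sum_insert hk, tot_add, ih, tot_sub, tot_ee, tot_ee]; simp

theorem ratio_apply {S : Finset (Fin (n + 1))} {k : Fin (n + 1)} (hk : k ≠ i) :
    ratio i S k = if k ∈ S then 1 else 0 := by
  classical
  simp [ratio, ee, Pi.single_apply, hk]

theorem ratio_mem (S : Finset (Fin (n + 1))) : ratio i S ∈ Om {i} 0 := by
  refine ⟨fun k hk => ?_, by rw [tot_ratio]⟩
  by_contra h
  rw [ratio_apply i (fun hh => h (Finset.mem_singleton.2 hh))] at hk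
  split at hk <;> omega

theorem neg_ratio_mem {S : Finset (Fin (n + 1))} (hi : i ∈ S) : -ratio i S ∈ Om S 0 := by
  refine ⟨fun k hk => ?_, by rw [show tot (-ratio i S) = -tot (ratio i S) from Finset.sum_neg_distrib .., tot_ratio, neg_zero]⟩
  by_contra h
  have hki : k ≠ i := fun hh => h (by rw [hh]; exact hi)
  rw [Pi.neg_apply, ratio_apply i hki, if_neg h] at hk
  omega

/-- The generator of the localisation. -/
def loc (S : Finset (Fin (n + 1))) : Q A ({i} : Finset (Fin (n + 1))) :=
  ⟨mon (ratio i S), mon_mem_sup (ratio_mem i S)⟩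

theorem exists_pow_mul_mem {S : Finset (Fin (n + 1))} (hi : i ∈ S) (x : Lau A (n + 1))
    (hx : x ∈ sup A S 0) : ∃ N : ℕ, mon ((N : ℤ) • ratio i S) * x ∈ sup A {i} 0 := by
  classical
  refine ⟨x.coeff.support.sup fun e => Finset.univ.sup fun k => (-(e k)).toNat, ?_⟩
  set N := x.coeff.support.sup fun e => Finset.univ.sup fun k => (-(e k)).toNat with hN
  rw [AddMonoidAlgebra.mem_supported] at hx ⊢
  intro e' he'
  obtain ⟨e₁, h₁, e, h₂, rfl⟩ := Finset.mem_add.1 (AddMonoidAlgebra.support_coeff_mul_subset _ _ he')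
  obtain rfl : e₁ = (N : ℤ) • ratio i S := Finset.mem_singleton.1 (Finsupp.support_single_subset h₁)
  refine ⟨fun k hk => ?_, by rw [tot_add, tot_smul, tot_ratio, mul_zero, zero_add]; exact (hx h₂).2⟩
  by_contra h
  have hki : k ≠ i := fun hh => h (Finset.mem_singleton.2 hh)
  rw [Pi.add_apply, Pi.smul_apply, ratio_apply i hki, smul_eq_mul] at hk
  have h3 : (-(e k)).toNat ≤ N :=
    (Finset.le_sup (f := fun k => (-(e k)).toNat) (Finset.mem_univ k)).trans
      (Finset.le_sup (f := fun e => Finset.univ.sup fun k => (-(e k)).toNat) h₂)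
  split at hk
  · rw [mul_one] at hk; omega
  · next hkS => exact hkS ((hx h₂).1 k (by simpa using hk))

/-- The inclusion of a piece into a larger one. -/
def inclQ {S : Finset (Fin (n + 1))} (hi : i ∈ S) : Q A ({i} : Finset (Fin (n + 1))) →+* Q A S :=
  (Subalgebra.inclusion (Q_mono (Finset.singleton_subset_iff.2 hi))).toRingHom

theorem isLocalization_inclQ {S : Finset (Fin (n + 1))} (hi : i ∈ S) :
    @IsLocalization _ _ (Submonoid.powers (loc (A := A) i S)) (Q A S) _ (inclQ i hi).toAlgebra := by
  letI := (inclQ (A := A) i hi).toAlgebra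
  have hpow : ∀ N : ℕ, mon (A := A) (ratio i S) ^ N = mon ((N : ℤ) • ratio i S) := fun N => by
    rw [mon, AddMonoidAlgebra.single_pow, one_pow, natCast_zsmul]
    rfl
  refine (isLocalization_iff _ _).2 ⟨?_, ?_, ?_⟩
  · rintro ⟨_, N, rfl⟩
    refine IsUnit.of_mul_eq_one (⟨mon (-ratio i S), mon_mem_sup (neg_ratio_mem i hi)⟩ ^ N : Q A S) (Subtype.ext ?_)
    show mon (A := A) (ratio i S) ^ N * mon (-ratio i S) ^ N = 1
    rw [← mul_pow, mon_mul, add_neg_cancel, mon_zero, one_pow]
  · intro x
    obtain ⟨N, hN⟩ := exists_pow_mul_mem i hi x.1 x.2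
    refine ⟨⟨⟨_, hN⟩, ⟨loc i S ^ N, N, rfl⟩⟩, Subtype.ext ?_⟩
    show x.1 * mon (ratio i S) ^ N = mon ((N : ℤ) • ratio i S) * x.1
    rw [hpow, mul_comm]
  · intro x y h
    refine ⟨1, ?_⟩
    rw [Submonoid.coe_one, one_mul, one_mul]
    exact Subtype.ext (congrArg (fun z : Q A S => (z : Lau A (n + 1))) h)

theorem isKoszulRegularSeq_Q (ha : LCI.IsKoszulRegularSeq A (List.ofFn a)) {S : Finset (Fin (n + 1))}
    (hi : i ∈ S) : LCI.IsKoszulRegularSeq (Q A S)
      ((List.ofFn (gg a)).map (algebraMap (MvPolynomial (Fin (n + 1)) A) (Q A S))) := by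
  letI := (inclQ (A := A) i hi).toAlgebra
  haveI := isLocalization_inclQ (A := A) i hi
  have := GrothLib.KoszulColon.isKoszulRegularSeq_map (inclQ (A := A) i hi)
    (RingHom.flat_algebraMap_iff.mpr (IsLocalization.flat (Q A S) (Submonoid.powers (loc (A := A) i S))))
    _ (isKoszulRegularSeq_gg a i ha)
  rw [List.map_map] at this
  exact this

end

end GrothLib.BlowCoh8
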