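import Groth.Agent.Lib.KoszulColon.Basic
import Mathlib.RingTheory.Flat.Basic
import Mathlib.Algebra.Category.ModuleCat.Basic
import Mathlib.LinearAlgebra.TensorProduct.RightExactness

/-!
# Exact complexes whose terms have exact Koszul complexes stay exact modulo the sequence
-/

set_option autoImplicit false
set_option backward.isDefEq.respectTransparency false

universe u

open CategoryTheory Limits TensorProduct

namespace GrothLib.BlowCoh8

open GrothLib.KoszulColon

variable {P : Type u} [CommRing P] (l : List P)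

/-- The Koszul complex on a list. -/
noncomputable abbrev KK : CochainComplex (ModuleCat.{u} P) ℤ :=
  kc (LinearMap.id : Module.Dual P P) l

/-- The ideal of the list. -/
abbrev II : Ideal P := Ideal.span {b | b ∈ l.map (LinearMap.id : Module.Dual P P)}

variable (D : ℕ → Type u) [∀ p, AddCommGroup (D p)] [∀ p, Module P (D p)]
  (d : ∀ p, D p →ₗ[P] D (p + 1))

/-- The vertical differential. -/
noncomputable def dv (q : ℕ) (i j : ℤ) : D q ⊗[P] (KK l).X i →ₗ[P] D q ⊗[P] (KK l).X j :=
  ((KK l).d i j).hom.lTensor (D q)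

/-- The horizontal differential. -/
noncomputable def dh (q : ℕ) (i : ℤ) : D q ⊗[P] (KK l).X i →ₗ[P] D (q + 1) ⊗[P] (KK l).X i :=
  (d q).rTensor ((KK l).X i)

theorem dv_dh (q : ℕ) (i j : ℤ) (x : D q ⊗[P] (KK l).X i) :
    dv l D (q + 1) i j (dh l D d q i x) = dh l D d q j (dv l D q i j x) := by
  unfold dv dh
  rw [← LinearMap.comp_apply, ← LinearMap.comp_apply, LinearMap.lTensor_comp_rTensor, LinearMap.rTensor_comp_lTensor]

theorem dv_dv (q : ℕ) (i j k : ℤ) (x : D q ⊗[P] (KK l).X i) :
    dv l D q j k (dv l D q i j x) = 0 := by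
  unfold dv
  rw [← LinearMap.lTensor_comp_apply,
    show ((KK l).d j k).hom.comp ((KK l).d i j).hom = 0 from
      congrArg ModuleCat.Hom.hom ((KK l).d_comp_d i j k), LinearMap.lTensor_zero]
  rfl

theorem exact_dh (hrow : ∀ p, Function.Exact (d p) (d (p + 1))) (p : ℕ) (i : ℤ) :
    Function.Exact (dh l D d p i) (dh l D d (p + 1) i) := by
  haveI := free_kc (LinearMap.id : Module.Dual P P) l i
  exact Module.Flat.rTensor_exact _ (hrow p)

theorem dh_dh (hrow : ∀ p, Function.Exact (d p) (d (p + 1))) (p : ℕ) (i : ℤ)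
    (x : D p ⊗[P] (KK l).X i) : dh l D d (p + 1) i (dh l D d p i x) = 0 :=
  (exact_dh l D d hrow p i).apply_apply_eq_zero x

theorem subsingleton_out (q : ℕ) (i : ℤ) (h : i + l.length < 0) :
    Subsingleton (D q ⊗[P] (KK l).X i) := by
  haveI := ModuleCat.subsingleton_of_isZero (isZero_out (LinearMap.id : Module.Dual P P) l i (Or.inr h))
  refine ⟨fun a b => ?_⟩
  have hz : ∀ t : D q ⊗[P] (KK l).X i, t = 0 := fun t => by
    induction t using TensorProduct.induction_on with
    | zero => rfl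
    | tmul a b => rw [Subsingleton.elim b 0, tmul_zero]
    | add a b ha hb => rw [ha, hb, add_zero]
  rw [hz a, hz b]

theorem staircase (hrow : ∀ p, Function.Exact (d p) (d (p + 1)))
    (hcol : ∀ p : ℕ, ∀ i j k : ℤ, i + 1 = j → j + 1 = k → j ≠ 0 →
      Function.Exact (dv l D (p + 2) i j) (dv l D (p + 2) j k)) :
    ∀ (m : ℕ) (i j k : ℤ), i + 1 = j → j + 1 = k → j ≠ 0 → j + l.length < m → ∀ (q : ℕ)
      (x : D (q + 1) ⊗[P] (KK l).X j), dv l D (q + 2) j k (dh l D d (q + 1) j x) = 0 →
      ∃ (y : D q ⊗[P] (KK l).X j) (y' : D (q + 1) ⊗[P] (KK l).X i),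
        x = dh l D d q j y + dv l D (q + 1) i j y' := by
  intro m
  induction m with
  | zero =>
    intro i j k _ _ _ hj q x _
    haveI := subsingleton_out l D (q + 1) j (by omega)
    exact ⟨0, 0, Subsingleton.elim _ _⟩
  | succ m ih =>
    intro i j k hij hjk hj0 hj q x hx
    by_cases hpos : 0 < j
    · haveI := ModuleCat.subsingleton_of_isZero (isZero_out (LinearMap.id : Module.Dual P P) l j (Or.inl hpos))
      refine ⟨0, 0, ?_⟩
      rw [map_zero, map_zero, add_zero]
      induction x using TensorProduct.induction_on with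
      | zero => rfl
      | tmul a b => rw [Subsingleton.elim b 0, tmul_zero]
      | add a b ha hb =>
        have h0 : ∀ t : D (q + 1) ⊗[P] (KK l).X j, t = 0 := fun t => by
          induction t using TensorProduct.induction_on with
          | zero => rfl
          | tmul a b => rw [Subsingleton.elim b 0, tmul_zero]
          | add a b ha hb => rw [ha, hb, add_zero]
        exact h0 _
    obtain ⟨x₁, hx₁⟩ := (hcol q i j k hij hjk hj0 _).1 hx
    have hc : dv l D (q + 3) i j (dh l D d (q + 2) i x₁) = 0 := by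
      rw [dv_dh, hx₁, dh_dh l D d hrow]
    obtain ⟨y, y', hy⟩ := ih (i - 1) i j (by omega) hij (by omega) (by omega) (q + 1) x₁ hc
    have hz : dh l D d (q + 1) j (x - dv l D (q + 1) i j y) = 0 := by
      rw [map_sub, ← hx₁, hy, map_add, dv_dv, add_zero, dv_dh, sub_self]
    obtain ⟨z, hz⟩ := (exact_dh l D d hrow q j _).1 hz
    exact ⟨z, y, by rw [hz, sub_add_cancel]⟩

/-- The projection of degree zero. -/
noncomputable def ret (q : ℕ) : D q ⊗[P] (KK l).X 0 →ₗ[P] D q :=
  (TensorProduct.rid P (D q)).toLinearMap.comp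
    (((ExteriorAlgebra.algebraMapInv (R := P) (M := P)).toLinearMap.comp
      (phi (LinearMap.id : Module.Dual P P) l 0)).lTensor (D q))

theorem ret_tmul_unit (q : ℕ) (v : D q) :
    ret l D q (v ⊗ₜ unit (LinearMap.id : Module.Dual P P) l) = v := by
  simp only [ret, LinearMap.comp_apply, LinearMap.lTensor_tmul, LinearEquiv.coe_coe,
    TensorProduct.rid_tmul, phi_unit, AlgHom.toLinearMap_apply, map_one, one_smul]

theorem ret_dv_mem (q : ℕ) (i : ℤ) (hi : i + 1 = 0) (t : D q ⊗[P] (KK l).X i) :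
    ret l D q (dv l D q i 0 t) ∈ II l • (⊤ : Submodule P (D q)) := by
  induction t using TensorProduct.induction_on with
  | zero => rw [map_zero, map_zero]; exact Submodule.zero_mem _
  | add a b ha hb => rw [map_add, map_add]; exact Submodule.add_mem _ ha hb
  | tmul v e =>
    simp only [ret, dv, LinearMap.comp_apply, LinearMap.lTensor_tmul, LinearEquiv.coe_coe,
      TensorProduct.rid_tmul]
    refine Submodule.smul_mem_smul ?_ trivial
    have h := map_mem_smul_top ((ExteriorAlgebra.algebraMapInv (R := P) (M := P)).toLinearMap.comp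
      (phi (LinearMap.id : Module.Dual P P) l 0)) (d_mem (LinearMap.id : Module.Dual P P) l i 0 hi e)
    rw [smul_eq_mul, Ideal.mul_top] at h
    exact h

theorem ret_dh (q : ℕ) (t : D q ⊗[P] (KK l).X 0) :
    ret l D (q + 1) (dh l D d q 0 t) = d q (ret l D q t) := by
  induction t using TensorProduct.induction_on with
  | zero => simp
  | add a b ha hb => simp only [map_add, ha, hb]
  | tmul v e => simp [ret, dh]

theorem tmul_unit_mem_range (q : ℕ) (w : D q) (hw : w ∈ II l • (⊤ : Submodule P (D q))) :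
    w ⊗ₜ unit (LinearMap.id : Module.Dual P P) l ∈ LinearMap.range (dv l D q (-1) 0) := by
  refine Submodule.smul_induction_on hw (fun a ha v _ => ?_) (fun a b ha hb => ?_)
  · obtain ⟨e, he⟩ := smul_unit_mem_range (LinearMap.id : Module.Dual P P) l a ha
    refine ⟨v ⊗ₜ e, ?_⟩
    show v ⊗ₜ ((KK l).d (-1) 0).hom e = _
    rw [he, tmul_smul, smul_tmul']
  · rw [add_tmul]
    exact Submodule.add_mem _ ha hb

/-- A cycle modulo the sequence is a boundary modulo the sequence. -/
theorem exact_mod (hrow : ∀ p, Function.Exact (d p) (d (p + 1)))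
    (hcol : ∀ p : ℕ, ∀ i j k : ℤ, i + 1 = j → j + 1 = k → j ≠ 0 →
      Function.Exact (dv l D (p + 2) i j) (dv l D (p + 2) j k))
    (p : ℕ) (x : D (p + 1)) (hx : d (p + 1) x ∈ II l • (⊤ : Submodule P (D (p + 2)))) :
    ∃ y : D p, x - d p y ∈ II l • (⊤ : Submodule P (D (p + 1))) := by
  let x₀ : D (p + 1) ⊗[P] (KK l).X 0 := x ⊗ₜ unit (LinearMap.id : Module.Dual P P) l
  obtain ⟨x₁, hx₁⟩ := tmul_unit_mem_range l D (p + 2) _ hx
  have hx₀ : dh l D d (p + 1) 0 x₀ = dv l D (p + 2) (-1) 0 x₁ := by rw [hx₁]; rfl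
  have hc : dv l D (p + 3) (-1) 0 (dh l D d (p + 2) (-1) x₁) = 0 := by
    rw [dv_dh, ← hx₀, dh_dh l D d hrow]
  obtain ⟨y, y', hy⟩ := staircase l D d hrow hcol (l.length + 1) (-2) (-1) 0 (by omega) (by omega)
    (by omega) (by omega) (p + 1) x₁ hc
  have hz : dh l D d (p + 1) 0 (x₀ - dv l D (p + 1) (-1) 0 y) = 0 := by
    rw [map_sub, hx₀, hy, map_add, dv_dv, add_zero, dv_dh, sub_self]
  obtain ⟨z, hz⟩ := (exact_dh l D d hrow p 0 _).1 hz
  refine ⟨ret l D p z, ?_⟩
  have h : ret l D (p + 1) x₀ = d p (ret l D p z) + ret l D (p + 1) (dv l D (p + 1) (-1) 0 y) := by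
    rw [← ret_dh, hz, map_sub, sub_add_cancel]
  rw [show ret l D (p + 1) x₀ = x from ret_tmul_unit l D (p + 1) x] at h
  rw [h, add_sub_cancel_left]
  exact ret_dv_mem l D (p + 1) (-1) (by omega) y

end GrothLib.BlowCoh8
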