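import Groth.Agent.Lib.BlowCoh8.Exact
import Groth.Agent.Lib.BlowPB8.Alg

/-!
# Evaluation of the monomials with poles on a piece of the blow-up
-/

set_option autoImplicit false
set_option backward.isDefEq.respectTransparency false

universe u

open MvPolynomial

namespace GrothLib.BlowCoh8

open GrothLib.BlowUp17 GrothLib.BlowUpBC12 GrothLib.PerfBlow28

noncomputable section

variable {A R R' : Type u} [CommRing A] [CommRing R] [CommRing R'] {c : ℕ} (a : Fin c → A)
  (φ : A →+* R)

/-- The numerator of a monomial. -/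
def num (e : Fin c → ℤ) : R := ∏ k, φ (a k) ^ (e k).toNat

/-- `z` is the value of the monomial. -/
def IsVal (e : Fin c → ℤ) (z : R) : Prop := z * num a φ (-e) = num a φ e

/-- The centre generates an invertible ideal, generated by each member of `S`. -/
structure Good (S : Finset (Fin c)) : Prop where
  div : ∀ j ∈ S, ∀ k, ∃ r, φ (a k) = r * φ (a j)
  nzd : ∀ j ∈ S, φ (a j) ∈ nonZeroDivisors R

variable {a φ}

theorem Good.mono {S T : Finset (Fin c)} (h : Good a φ T) (hST : S ⊆ T) : Good a φ S :=
  ⟨fun j hj => h.div j (hST hj), fun j hj => h.nzd j (hST hj)⟩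

theorem Good.num_neg_nzd {S : Finset (Fin c)} (h : Good a φ S) {e : Fin c → ℤ}
    (he : ∀ k, e k < 0 → k ∈ S) : num a φ (-e) ∈ nonZeroDivisors R := by
  refine prod_mem fun k _ => ?_
  by_cases hk : e k < 0
  · exact pow_mem (h.nzd k (he k hk)) _
  · rw [show ((-e) k).toNat = 0 by rw [Pi.neg_apply]; omega, pow_zero]
    exact one_mem _

theorem isVal_unique {S : Finset (Fin c)} (h : Good a φ S) {e : Fin c → ℤ} (he : ∀ k, e k < 0 → k ∈ S)
    {z z' : R} (hz : IsVal a φ e z) (hz' : IsVal a φ e z') : z = z' :=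
  (mul_cancel_right_mem_nonZeroDivisors (h.num_neg_nzd he)).1 (hz.trans hz'.symm)

theorem exists_isVal {S : Finset (Fin c)} (h : Good a φ S) {e : Fin c → ℤ} (he : e ∈ Om S 0) :
    ∃ z, IsVal a φ e z := by
  classical
  by_cases hS : ∃ j, j ∈ S
  · obtain ⟨j, hj⟩ := hS
    choose r hr using h.div j hj
    have hu : ∀ k ∈ S, IsUnit (r k) := fun k hk => by
      obtain ⟨s, hs⟩ := h.div k hk j
      refine IsUnit.of_mul_eq_one s ((mul_cancel_right_mem_nonZeroDivisors (h.nzd j hj)).1 ?_)
      rw [one_mul, mul_right_comm, ← hr, mul_comm, ← hs]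
    have hn : ∀ e : Fin c → ℤ, num a φ e = (∏ k, r k ^ (e k).toNat) * φ (a j) ^ (∑ k, (e k).toNat) := fun e => by
      rw [num, ← Finset.prod_pow_eq_pow_sum, ← Finset.prod_mul_distrib]
      exact Finset.prod_congr rfl fun k _ => by rw [← mul_pow, ← hr]
    have hu' : IsUnit (∏ k, r k ^ ((-e) k).toNat) := by
      refine (IsUnit.prod_iff).2 fun k _ => ?_
      by_cases hk : e k < 0
      · exact (hu k (he.1 k hk)).pow _
      · rw [show ((-e) k).toNat = 0 by rw [Pi.neg_apply]; omega, pow_zero]
        exact isUnit_one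
    obtain ⟨v, hv⟩ := hu'.exists_left_inv
    have hle : ∑ k, ((-e) k).toNat ≤ ∑ k, (e k).toNat := by
      have h1 : ((∑ k, (e k).toNat : ℕ) : ℤ) - ((∑ k, ((-e) k).toNat : ℕ) : ℤ) = tot e := by
        push_cast
        rw [← Finset.sum_sub_distrib]
        exact Finset.sum_congr rfl fun k _ => by
          rw [Pi.neg_apply]
          omega
      have := he.2
      omega
    obtain ⟨d, hd⟩ := Nat.exists_eq_add_of_le hle
    refine ⟨v * (∏ k, r k ^ (e k).toNat) * φ (a j) ^ d, ?_⟩
    show _ * num a φ (-e) = num a φ e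
    rw [hn, hn, hd, pow_add]
    calc _ = v * (∏ k, r k ^ ((-e) k).toNat) *
          ((∏ k, r k ^ (e k).toNat) * (φ (a j) ^ (∑ k, ((-e) k).toNat) * φ (a j) ^ d)) := by ring
      _ = _ := by rw [hv, one_mul]
  · refine ⟨num a φ e, ?_⟩
    show num a φ e * num a φ (-e) = num a φ e
    rw [show num a φ (-e) = 1 from Finset.prod_eq_one fun k _ => by
      rw [show ((-e) k).toNat = 0 by
        rw [Pi.neg_apply]; have : ¬ e k < 0 := fun hk => hS ⟨k, he.1 k hk⟩; omega, pow_zero], mul_one]

theorem isVal_zero : IsVal a φ 0 1 := by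
  show _ * num a φ (-0) = num a φ 0
  simp [num]

theorem isVal_ee (k : Fin c) : IsVal a φ (ee k) (φ (a k)) := by
  classical
  show _ * num a φ (-ee k) = num a φ (ee k)
  rw [show num a φ (-ee k) = 1 from Finset.prod_eq_one fun l _ => by
    rcases eq_or_ne l k with rfl | hl <;> simp [ee, *], mul_one, num,
    Finset.prod_eq_single k (fun l _ hl => by simp [ee, hl]) (fun h => absurd (Finset.mem_univ k) h)]
  simp [ee]

theorem isVal_add {S : Finset (Fin c)} (h : Good a φ S) {e e' : Fin c → ℤ} (he : ∀ k, e k < 0 → k ∈ S)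
    (he' : ∀ k, e' k < 0 → k ∈ S) {z z' : R} (hz : IsVal a φ e z) (hz' : IsVal a φ e' z') :
    IsVal a φ (e + e') (z * z') := by
  refine (mul_cancel_right_mem_nonZeroDivisors (mul_mem (h.num_neg_nzd he) (h.num_neg_nzd he'))).1 ?_
  rw [show z * z' * num a φ (-(e + e')) * (num a φ (-e) * num a φ (-e')) =
    (z * num a φ (-e)) * (z' * num a φ (-e')) * num a φ (-(e + e')) by ring, hz, hz']
  simp only [num, ← Finset.prod_mul_distrib, ← pow_add, Pi.add_apply, Pi.neg_apply]
  exact Finset.prod_congr rfl fun k _ => congrArg _ (by omega)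

theorem isVal_map (ρ : R →+* R') {e : Fin c → ℤ} {z : R} (hz : IsVal a φ e z) :
    IsVal a (ρ.comp φ) e (ρ z) := by
  have h := congrArg ρ hz
  unfold IsVal num
  simp only [map_mul, num, map_prod, map_pow] at h
  exact h

variable (a φ)

open Classical in
/-- The value of a monomial. -/
def val (e : Fin c → ℤ) : R := if h : ∃ z, IsVal a φ e z then h.choose else 0

/-- The evaluation. -/
def ev : Lau A c →+ R :=
  (Finsupp.liftAddHom fun e => (AddMonoidHom.mulRight (val a φ e)).comp φ.toAddMonoidHom).comp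
    AddMonoidAlgebra.coeffAddEquiv.toAddMonoidHom

theorem ev_single (e : Fin c → ℤ) (r : A) : ev a φ (AddMonoidAlgebra.single e r) = φ r * val a φ e :=
  Finsupp.liftAddHom_apply_single _ e r

variable {a φ}

theorem val_eq {S : Finset (Fin c)} (h : Good a φ S) {e : Fin c → ℤ} (he : ∀ k, e k < 0 → k ∈ S) {z : R}
    (hz : IsVal a φ e z) : val a φ e = z := by
  unfold val
  rw [dif_pos ⟨z, hz⟩]
  exact isVal_unique h he (Exists.choose_spec (⟨z, hz⟩ : ∃ z, IsVal a φ e z)) hz

theorem isVal_val {S : Finset (Fin c)} (h : Good a φ S) {e : Fin c → ℤ} (he : e ∈ Om S 0) :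
    IsVal a φ e (val a φ e) := by
  obtain ⟨z, hz⟩ := exists_isVal h he
  rwa [val_eq h he.1 hz]

/-- Elements with support in a set are combinations of monomials there. -/
theorem induction_sup {S : Finset (Fin c)} {n : ℤ} {motive : Lau A c → Prop} {x : Lau A c} (hx : x ∈ sup A S n)
    (h0 : motive 0) (hadd : ∀ x y, motive x → motive y → motive (x + y))
    (hs : ∀ e ∈ Om S n, ∀ r, motive (AddMonoidAlgebra.single e r)) : motive x := by
  rw [← AddMonoidAlgebra.sum_coeff_single x, Finsupp.sum]
  exact Finset.sum_induction _ motive hadd h0 fun e he => hs e (AddMonoidAlgebra.mem_supported.1 hx he) _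

theorem ev_mul {S : Finset (Fin c)} (h : Good a φ S) {x y : Lau A c} (hx : x ∈ sup A S 0) (hy : y ∈ sup A S 0) :
    ev a φ (x * y) = ev a φ x * ev a φ y := by
  refine induction_sup (motive := fun x => ev a φ (x * y) = ev a φ x * ev a φ y) hx (by simp)
    (fun x x' h1 h2 => by show ev a φ ((x + x') * y) = ev a φ (x + x') * ev a φ y; rw [add_mul, map_add, map_add, add_mul, h1, h2])
    fun e he r => ?_
  refine induction_sup (motive := fun y => ev a φ (AddMonoidAlgebra.single e r * y) = ev a φ (AddMonoidAlgebra.single e r) * ev a φ y) hy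
    (by simp) (fun y y' h1 h2 => by
      show ev a φ (AddMonoidAlgebra.single e r * (y + y')) = ev a φ (AddMonoidAlgebra.single e r) * ev a φ (y + y')
      rw [mul_add, map_add, map_add, mul_add, h1, h2])
    fun e' he' r' => ?_
  rw [AddMonoidAlgebra.single_mul_single, ev_single, ev_single, ev_single, map_mul,
    val_eq h (add_mem_Om (le_refl S) (le_refl S) he he').1
      (isVal_add h he.1 he'.1 (isVal_val h he) (isVal_val h he'))]
  ring

theorem ev_comp {S : Finset (Fin c)} (h : Good a φ S) (ρ : R →+* R') {T : Finset (Fin c)}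
    (h' : Good a (ρ.comp φ) T) (hST : S ⊆ T) {x : Lau A c} (hx : x ∈ sup A S 0) :
    ev a (ρ.comp φ) x = ρ (ev a φ x) := by
  refine induction_sup (motive := fun x => ev a (ρ.comp φ) x = ρ (ev a φ x)) hx (by simp)
    (fun x x' h1 h2 => by show ev a (ρ.comp φ) (x + x') = ρ (ev a φ (x + x')); rw [map_add, map_add, map_add, h1, h2])
    fun e he r => ?_
  rw [ev_single, ev_single, map_mul, val_eq h' (fun k hk => hST (he.1 k hk)) (isVal_map ρ (isVal_val h he))]
  rfl

theorem ev_toLau {S : Finset (Fin c)} (h : Good a φ S) (p : MvPolynomial (Fin c) A) :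
    ev a φ (toLau p) = eval₂ φ (fun k => φ (a k)) p := by
  induction p using MvPolynomial.induction_on with
  | C r =>
    rw [toLau, aeval_C, eval₂_C]
    refine (ev_single a φ 0 r).trans ?_
    rw [val_eq h (fun k hk => absurd hk (by simp)) isVal_zero, mul_one]
  | add p q hp hq => rw [map_add, map_add, eval₂_add, hp, hq]
  | mul_X p k hp =>
    rw [map_mul, ev_mul h (sup_mono (Finset.empty_subset S) le_rfl (toLau_mem_sup p))
      (sup_mono (Finset.empty_subset S) le_rfl (toLau_mem_sup (X k))), hp, eval₂_mul, eval₂_X]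
    congr 1
    rw [toLau, aeval_X, mon, ev_single, map_one, one_mul, val_eq h ((ee_mem_Om S k).1) (isVal_ee k)]

theorem ev_one {S : Finset (Fin c)} (h : Good a φ S) : ev a φ 1 = 1 := by
  have := ev_toLau h (1 : MvPolynomial (Fin c) A)
  rwa [map_one, eval₂_one] at this

/-- The evaluation on a piece, as a ring map. -/
def evQ {S : Finset (Fin c)} (h : Good a φ S) : Q A S →+* R where
  toFun x := ev a φ x.1
  map_one' := ev_one h
  map_mul' x y := ev_mul h x.2 y.2
  map_zero' := map_zero _
  map_add' x y := map_add _ _ _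

theorem evQ_apply {S : Finset (Fin c)} (h : Good a φ S) (x : Q A S) : evQ h x = ev a φ x.1 := rfl

end

section Chart

variable {A R R' : Type u} [CommRing A] [CommRing R] [CommRing R'] {n : ℕ} (a : Fin (n + 1) → A) (i : Fin (n + 1))
  (φ : A →+* R)

noncomputable section

theorem ofList_hM_le_iff (f : PM (A := A) i) :
    f ∈ Ideal.span (Set.range (hM a i)) ↔
      Polynomial.eval (C (a i) : MvPolynomial (Var i) A) f ∈ rels a i := by
  classical
  have hi : Polynomial.X - Polynomial.C (C (a i)) ∈ Ideal.span (Set.range (hM a i)) :=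
    Ideal.subset_span ⟨i, hM_self a i⟩
  constructor
  · intro hf
    have hle : Ideal.span (Set.range (hM a i)) ≤ (rels a i).comap (Polynomial.evalRingHom (C (a i))) := by
      rw [Ideal.span_le]
      rintro _ ⟨k, rfl⟩
      show Polynomial.eval (C (a i)) (hM a i k) ∈ rels a i
      simp only [hM, Polynomial.eval_sub, Polynomial.eval_mul, Polynomial.eval_X, Polynomial.eval_C]
      by_cases hk : k = i
      · subst hk; simp [xv]
      · refine (Submodule.neg_mem_iff _).1 ?_
        rw [neg_sub]
        exact Ideal.subset_span ⟨k, hk, by rw [eqs, if_neg hk]⟩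
    exact hle hf
  · intro hf
    obtain ⟨q, hq⟩ := Polynomial.X_sub_C_dvd_sub_C_eval (a := (C (a i) : MvPolynomial (Var i) A)) (p := f)
    have hf' : f = (Polynomial.X - Polynomial.C (C (a i))) * q + Polynomial.C (Polynomial.eval (C (a i)) f) := by
      rw [← hq, sub_add_cancel]
    rw [hf']
    refine Submodule.add_mem _ (Ideal.mul_mem_right _ _ hi) ?_
    have hle : rels a i ≤ (Ideal.span (Set.range (hM a i))).comap Polynomial.C := by
      refine Ideal.span_le.2 ?_
      rintro _ ⟨k, hk, rfl⟩
      show Polynomial.C (eqs a i k) ∈ Ideal.span (Set.range (hM a i))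
      rw [show Polynomial.C (eqs a i k) = Polynomial.C (xv i k) * (Polynomial.X - Polynomial.C (C (a i))) - hM a i k by
        simp only [hM, eqs, if_neg hk, map_sub, map_mul]; ring]
      exact sub_mem (Ideal.mul_mem_left _ _ hi) (Ideal.subset_span ⟨k, rfl⟩)
    exact hle hf

/-- The evaluation on a chart is surjective with kernel the equations. -/
theorem chart_surjective_ker (ha : LCI.IsKoszulRegularSeq A (List.ofFn a)) (h : Good a φ {i})
    (hnum : ∀ z, ∃ (m : ℕ) (x : A), x ∈ ctr a ^ m ∧ φ x = z * φ (a i) ^ m)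
    (hker : ∀ x, φ x = 0 → ∃ M : ℕ, a i ^ M * x = 0) :
    Function.Surjective (evQ h) ∧
      RingHom.ker (evQ h) = (Ideal.span (Set.range (gg a))).map
        (algebraMap (MvPolynomial (Fin (n + 1)) A) (Q A {i})) := by
  classical
  choose r hr using h.div i (Finset.mem_singleton_self i)
  let ψ : MvPolynomial (Var i) A →+* R := eval₂Hom φ fun k => r k.1
  have hri : r i = 1 :=
    (mul_cancel_right_mem_nonZeroDivisors (h.nzd i (Finset.mem_singleton_self i))).1 (by rw [← hr, one_mul])
  have hψC : ∀ x, ψ (C x) = φ x := fun x => eval₂Hom_C _ _ x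
  have hψv : ∀ k, ψ (xv i k) = r k := fun k => by
    by_cases hk : k = i
    · subst hk; rw [xv, dif_pos rfl, map_one, hri]
    · rw [xv, dif_neg hk]; exact eval₂Hom_X' _ _ _
  obtain ⟨hs, hk⟩ := GrothLib.BlowPB8.surjective_and_ker a i ha ψ
    (fun k => by rw [hψC, hψC, hψv, hr k, mul_comm]) (by rw [hψC]; exact h.nzd i (Finset.mem_singleton_self i))
    (fun z => by obtain ⟨m, x, hx, e⟩ := hnum z; exact ⟨m, x, hx, by rw [hψC, hψC]; exact e⟩)
    (fun x hx => hker x (by rwa [hψC] at hx))
  let E : PM (A := A) i ≃+* Q A ({i} : Finset (Fin (n + 1))) :=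
    (MvPolynomial.optionEquivLeft A (Var i)).symm.toRingEquiv.trans (modelEquiv i)
  have hE : ∀ f, evQ h (E f) = ψ (Polynomial.eval (C (a i)) f) := by
    intro f
    have key : ((evQ h).comp E.toRingHom) = ψ.comp (Polynomial.evalRingHom (C (a i))) := by
      refine Polynomial.ringHom_ext' (MvPolynomial.ringHom_ext (fun x => ?_) fun k => ?_) ?_
      · show ev a φ (par i ((optionEquivLeft A (Var i)).symm (Polynomial.C (C x)))) = ψ (Polynomial.eval _ (Polynomial.C _))
        rw [Polynomial.eval_C, hψC, show (optionEquivLeft A (Var i)).symm (Polynomial.C (C x)) = C x by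
          rw [AlgEquiv.symm_apply_eq, optionEquivLeft_C], par, aeval_C]
        refine (ev_single a φ 0 x).trans ?_
        rw [val_eq h (fun k hk => absurd hk (by simp)) isVal_zero, mul_one]
      · show ev a φ (par i ((optionEquivLeft A (Var i)).symm (Polynomial.C (X k)))) = ψ (Polynomial.eval _ (Polynomial.C _))
        rw [Polynomial.eval_C, show ψ (X k) = r k.1 from eval₂Hom_X' _ _ _,
          show (optionEquivLeft A (Var i)).symm (Polynomial.C (X k)) = X (some k) by
          rw [AlgEquiv.symm_apply_eq, optionEquivLeft_X_some], par, aeval_X, mon, ev_single, map_one, one_mul]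
        have hm : vv i (some k) ∈ Om {i} 0 := by
          have := expo_mem i (Finsupp.single (some k) 1)
          rwa [expo_single] at this
        refine val_eq h hm.1 ?_
        refine (mul_cancel_right_mem_nonZeroDivisors (h.nzd i (Finset.mem_singleton_self i))).1 ?_
        have hn1 : num a φ (-(ee k.1 - ee i)) = φ (a i) := by
          rw [num, Finset.prod_eq_single i (fun l _ hl => by
            rcases eq_or_ne l k.1 with hlk | hlk
            · simp [ee, hlk, k.2]
            · simp [ee, hlk, hl]) (fun hh => absurd (Finset.mem_univ i) hh)]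
          simp [ee, Ne.symm k.2]
        have hn2 : num a φ (ee k.1 - ee i) = φ (a k.1) := by
          rw [num, Finset.prod_eq_single k.1 (fun l _ hl => by
            rcases eq_or_ne l i with hli | hli
            · simp [ee, hli, Ne.symm k.2]
            · simp [ee, hli, hl]) (fun hh => absurd (Finset.mem_univ k.1) hh)]
          simp [ee, k.2]
        show r k.1 * num a φ (-(ee k.1 - ee i)) * φ (a i) = num a φ (ee k.1 - ee i) * φ (a i)
        rw [hn1, hn2, hr k.1]
      · show ev a φ (par i ((optionEquivLeft A (Var i)).symm Polynomial.X)) = ψ (Polynomial.eval _ Polynomial.X)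
        rw [Polynomial.eval_X, hψC, show (optionEquivLeft A (Var i)).symm Polynomial.X = X none by
          rw [AlgEquiv.symm_apply_eq, optionEquivLeft_X_none], par, aeval_X, mon, ev_single, map_one, one_mul]
        exact val_eq h (ee_mem_Om {i} i).1 (isVal_ee i)
    exact RingHom.congr_fun key f
  refine ⟨fun z => ?_, ?_⟩
  · obtain ⟨q, rfl⟩ := hs z
    exact ⟨E (Polynomial.C q), by rw [hE, Polynomial.eval_C]⟩
  · have hgg : ∀ k, E (hM a i k) = algebraMap (MvPolynomial (Fin (n + 1)) A) (Q A {i}) (gg a k) := by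
      intro k
      refine Subtype.ext ?_
      show par i ((MvPolynomial.optionEquivLeft A (Var i)).symm (hM a i k)) = toLau (gg a k)
      rw [hM, gg, map_sub, map_mul, map_sub, map_sub, map_mul]
      have hC : ∀ r : A, (MvPolynomial.optionEquivLeft A (Var i)).symm (Polynomial.C (C r)) = C r := fun r => by
        rw [AlgEquiv.symm_apply_eq, optionEquivLeft_C]
      have hX : (MvPolynomial.optionEquivLeft A (Var i)).symm Polynomial.X = X none := by
        rw [AlgEquiv.symm_apply_eq, optionEquivLeft_X_none]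
      rw [hC, hX, par, aeval_C, aeval_X, toLau, aeval_C, aeval_X]
      congr 1
      by_cases hk : k = i
      · subst hk
        rw [xv, dif_pos rfl, map_one, map_one, map_one, mul_one]
        rfl
      · rw [xv, dif_neg hk, show (MvPolynomial.optionEquivLeft A (Var i)).symm (Polynomial.C (X ⟨k, hk⟩)) = X (some ⟨k, hk⟩) by
          rw [AlgEquiv.symm_apply_eq, optionEquivLeft_X_some], aeval_X]
        show mon (ee i) * mon (ee k - ee i) = mon (ee k)
        rw [mon_mul, add_sub_cancel]
    rw [Ideal.map_span]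
    have himg : Ideal.span (algebraMap (MvPolynomial (Fin (n + 1)) A) (Q A {i}) '' Set.range (gg a)) =
        (Ideal.span (Set.range (hM a i))).map E.toRingHom := by
      rw [Ideal.map_span, ← Set.range_comp, ← Set.range_comp]
      congr 2
      exact funext fun k => (hgg k).symm
    rw [himg]
    refine le_antisymm (fun x hx => ?_) (Ideal.map_le_iff_le_comap.2 fun f hf => ?_)
    · obtain ⟨f, rfl⟩ := E.surjective x
      rw [RingHom.mem_ker, hE] at hx
      exact Ideal.mem_map_of_mem _ ((ofList_hM_le_iff a i f).2 (hk ▸ hx))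
    · show evQ h (E f) = 0
      rw [hE, ← RingHom.mem_ker, hk]
      exact (ofList_hM_le_iff a i f).1 hf

/-- The evaluation on a localisation of a chart. -/
theorem piece_surjective_ker (h : Good a φ {i}) (hs : Function.Surjective (evQ h))
    (hk : RingHom.ker (evQ h) = (Ideal.span (Set.range (gg a))).map
        (algebraMap (MvPolynomial (Fin (n + 1)) A) (Q A {i})))
    [Algebra R R'] {S : Finset (Fin (n + 1))} (hi : i ∈ S) (h' : Good a ((algebraMap R R').comp φ) S)
    (g : R) (hg : evQ h (loc i S) = g) [IsLocalization.Away g R'] :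
    Function.Surjective (evQ h') ∧
      RingHom.ker (evQ h') = (Ideal.span (Set.range (gg a))).map
        (algebraMap (MvPolynomial (Fin (n + 1)) A) (Q A S)) := by
  letI := (inclQ (A := A) i hi).toAlgebra
  haveI := isLocalization_inclQ (A := A) i hi
  have hcomm : ∀ x : Q A ({i} : Finset (Fin (n + 1))), evQ h' (inclQ i hi x) = algebraMap R R' (evQ h x) := fun x =>
    ev_comp h (algebraMap R R') h' (Finset.singleton_subset_iff.2 hi) x.2
  have hu : ∀ N : ℕ, IsUnit (inclQ (A := A) i hi (loc i S) ^ N) := fun N =>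
    (IsLocalization.map_units (Q A S) (⟨loc i S, Submonoid.mem_powers _⟩ : Submonoid.powers (loc (A := A) i S))).pow N
  refine ⟨fun z => ?_, le_antisymm (fun x hx => ?_) ?_⟩
  · obtain ⟨⟨q, _, N, rfl⟩, hq⟩ := IsLocalization.surj (Submonoid.powers g) z
    obtain ⟨x, rfl⟩ := hs q
    obtain ⟨v, hv⟩ := (hu N).exists_left_inv
    refine ⟨v * inclQ i hi x, ?_⟩
    have h1 : evQ h' v * algebraMap R R' g ^ N = 1 := by
      have := congrArg (evQ h') hv
      rwa [map_mul, map_one, map_pow, hcomm, hg] at this
    rw [map_mul, hcomm, ← hq]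
    show evQ h' v * (z * algebraMap R R' (g ^ N)) = z
    rw [map_pow, mul_left_comm, h1, mul_one]
  · obtain ⟨⟨y, _, N, rfl⟩, hy⟩ := IsLocalization.surj (Submonoid.powers (loc (A := A) i S)) x
    have h1 : algebraMap R R' (evQ h y) = 0 := by
      rw [← hcomm]
      show evQ h' (algebraMap _ (Q A S) y) = 0
      rw [← hy, map_mul, RingHom.mem_ker.1 hx, zero_mul]
    obtain ⟨⟨_, M, rfl⟩, hM⟩ := (IsLocalization.map_eq_zero_iff (Submonoid.powers g) R' _).1 h1
    have h2 : loc i S ^ M * y ∈ RingHom.ker (evQ h) := by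
      rw [RingHom.mem_ker, map_mul, map_pow, hg]
      exact hM
    rw [hk] at h2
    have h3 := Ideal.mem_map_of_mem (inclQ (A := A) i hi) h2
    rw [Ideal.map_map, show (inclQ (A := A) i hi).comp (algebraMap (MvPolynomial (Fin (n + 1)) A) (Q A {i})) =
      algebraMap (MvPolynomial (Fin (n + 1)) A) (Q A S) from rfl] at h3
    refine (Ideal.unit_mul_mem_iff_mem _ ((hu M).mul (hu N))).1 ?_
    have h4 : inclQ i hi (loc i S ^ M * y) = inclQ (A := A) i hi (loc i S) ^ M * inclQ i hi (loc i S) ^ N * x := by
      rw [map_mul, map_pow, mul_assoc]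
      refine congrArg _ ?_
      rw [mul_comm (inclQ i hi (loc i S) ^ N), ← map_pow]
      exact hy.symm
    rwa [h4] at h3
  · rw [Ideal.map_span, Ideal.span_le]
    rintro _ ⟨_, ⟨k, rfl⟩, rfl⟩
    rw [SetLike.mem_coe, RingHom.mem_ker]
    show ev a _ (toLau (gg a k)) = 0
    rw [ev_toLau h', gg, eval₂_sub, eval₂_X, eval₂_C, sub_self]

end

end Chart

end GrothLib.BlowCoh8
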