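import Groth.Agent.Lib.BlowCoh8.Chart
import Groth.Agent.Lib.KoszulColon.Regular

/-!
# The Čech complex modulo the equations is exact
-/

set_option autoImplicit false
set_option backward.isDefEq.respectTransparency false

universe u

open MvPolynomial TensorProduct CategoryTheory

namespace GrothLib.BlowCoh8

open GrothLib.KoszulColon

noncomputable section

variable {A : Type u} [CommRing A] {n : ℕ} (a : Fin (n + 1) → A)

local notation "P" => MvPolynomial (Fin (n + 1)) A

theorem KK_eq (l : List P) : KK l = Koszul.koszul P l :=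
  congrArg _ (List.map_id l)

theorem II_eq : II (List.ofFn (gg a)) = Ideal.span (Set.range (gg a)) := by
  unfold II
  congr 1
  ext x
  constructor
  · intro h; exact Set.mem_range.2 (List.mem_ofFn.1 ((List.map_id (List.ofFn (gg a))) ▸ h))
  · intro h; show x ∈ List.map _ _; exact (List.map_id _).symm ▸ List.mem_ofFn.2 (Set.mem_range.1 h)

/-- Exactness after tensoring passes to linearly equivalent modules. -/
theorem exact_lTensor_equiv {R : Type*} [CommRing R] {M M' N₁ N₂ N₃ : Type*} [AddCommGroup M] [Module R M]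
    [AddCommGroup M'] [Module R M'] [AddCommGroup N₁] [Module R N₁] [AddCommGroup N₂] [Module R N₂]
    [AddCommGroup N₃] [Module R N₃] (e : M ≃ₗ[R] M') (f : N₁ →ₗ[R] N₂) (g : N₂ →ₗ[R] N₃)
    (h : Function.Exact (f.lTensor M) (g.lTensor M)) : Function.Exact (f.lTensor M') (g.lTensor M') :=
  Function.Exact.of_ladder_linearEquiv_of_exact (e₁ := e.rTensor N₁) (e₂ := e.rTensor N₂) (e₃ := e.rTensor N₃)
    (TensorProduct.ext' fun _ _ => rfl) (TensorProduct.ext' fun _ _ => rfl) h

/-- Exactness after tensoring passes to products. -/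
theorem exact_lTensor_pi {R : Type*} [CommRing R] {ι : Type*} [Fintype ι] {M : ι → Type*}
    [∀ i, AddCommGroup (M i)] [∀ i, Module R (M i)] {N₁ N₂ N₃ : Type*} [AddCommGroup N₁] [Module R N₁]
    [AddCommGroup N₂] [Module R N₂] [AddCommGroup N₃] [Module R N₃] (f : N₁ →ₗ[R] N₂) (g : N₂ →ₗ[R] N₃)
    (hgf : g.comp f = 0) (h : ∀ i, Function.Exact (f.lTensor (M i)) (g.lTensor (M i))) :
    Function.Exact (f.lTensor (∀ i, M i)) (g.lTensor (∀ i, M i)) := by
  classical
  intro x
  constructor
  · intro hx
    have hy : ∀ i, ∃ y, f.lTensor (M i) y = (LinearMap.proj i : (∀ i, M i) →ₗ[R] M i).rTensor N₂ x := by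
      intro i
      refine (h i _).1 ?_
      rw [← LinearMap.comp_apply, LinearMap.lTensor_comp_rTensor, ← LinearMap.rTensor_comp_lTensor,
        LinearMap.comp_apply, hx, map_zero]
    choose y hy using hy
    refine ⟨∑ i, (LinearMap.single R M i).rTensor N₁ (y i), ?_⟩
    rw [map_sum]
    have hsum : ∀ z : (∀ i, M i) ⊗[R] N₂, ∑ i, (LinearMap.single R M i).rTensor N₂
        ((LinearMap.proj i : (∀ i, M i) →ₗ[R] M i).rTensor N₂ z) = z := by
      intro z
      induction z using TensorProduct.induction_on with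
      | zero => simp
      | tmul v w =>
        simp only [LinearMap.rTensor_tmul, LinearMap.proj_apply, LinearMap.single_apply, ← TensorProduct.sum_tmul,
          Finset.univ_sum_single]
      | add v w hv hw => simp only [map_add, Finset.sum_add_distrib, hv, hw]
    refine Eq.trans (Finset.sum_congr rfl fun i _ => ?_) (hsum x)
    rw [← hy, ← LinearMap.comp_apply, ← LinearMap.comp_apply, LinearMap.lTensor_comp_rTensor, LinearMap.rTensor_comp_lTensor]
  · rintro ⟨y, rfl⟩
    rw [← LinearMap.lTensor_comp_apply, hgf, LinearMap.lTensor_zero]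
    rfl

/-- The pieces of other degrees are free of rank one. -/
def twist {S : Finset (Fin (n + 1))} {i : Fin (n + 1)} (hi : i ∈ S) (m : ℤ) : Q A S ≃ₗ[P] W A S m where
  toFun x := ⟨mon (m • ee i) * (x : Lau A (n + 1)), by
    have h : mon (A := A) (m • ee i) ∈ sup A S m := mon_mem_sup ⟨fun k hk => by
      rcases eq_or_ne k i with rfl | hki
      · exact hi
      · simp [ee, hki] at hk, by rw [tot_smul, tot_ee, mul_one]⟩
    simpa [mem_W] using mul_mem_sup (le_refl S) (le_refl S) h (mem_Q_iff.1 x.2)⟩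
  map_add' x y := Subtype.ext (by simp [mul_add])
  map_smul' p x := Subtype.ext (by simp [smul_lau, mul_left_comm])
  invFun y := ⟨mon (-(m • ee i)) * (y : Lau A (n + 1)), by
    have h : mon (A := A) (-(m • ee i)) ∈ sup A S (-m) := mon_mem_sup ⟨fun k hk => by
      rcases eq_or_ne k i with rfl | hki
      · exact hi
      · simp [ee, hki] at hk, by rw [← neg_smul, tot_smul, tot_ee, mul_one]⟩
    simpa [mem_Q_iff] using mul_mem_sup (le_refl S) (le_refl S) h y.2⟩
  left_inv x := Subtype.ext (by simp [← mul_assoc, mon_mul, mon_zero])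
  right_inv y := Subtype.ext (by simp [← mul_assoc, mon_mul, mon_zero])

theorem exact_W (ha : LCI.IsKoszulRegularSeq A (List.ofFn a)) {S : Finset (Fin (n + 1))} {i : Fin (n + 1)}
    (hi : i ∈ S) (m : ℤ) (p q r : ℤ) (hpq : p + 1 = q) (hqr : q + 1 = r) (hq : q ≠ 0) :
    Function.Exact (((KK (List.ofFn (gg a))).d p q).hom.lTensor (W A S m))
      (((KK (List.ofFn (gg a))).d q r).hom.lTensor (W A S m)) := by
  obtain rfl : p = q - 1 := by omega
  obtain rfl : r = q + 1 := by omega
  refine exact_lTensor_equiv (twist hi m) _ _ ?_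
  rw [KK_eq]
  exact exact_lTensor_of_koszul (Q A S) (algebraMap P (Q A S)) (fun _ => rfl) _ q
    ((HomologicalComplex.exactAt_iff_isZero_homology _ q).2 (isKoszulRegularSeq_Q a i ha hi q hq))

/-- **The Čech complex of monomials is exact modulo the equations.** -/
theorem exists_sub_mem (ha : LCI.IsKoszulRegularSeq A (List.ofFn a)) {m : ℤ} (hm : -((n + 1 : ℕ) : ℤ) < m)
    (p : ℕ) (x : DD A (n + 1) m (p + 1))
    (hx : dd A (n + 1) m (p + 1) x ∈ Ideal.span (Set.range (gg a)) • (⊤ : Submodule P (DD A (n + 1) m (p + 2)))) :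
    ∃ y : DD A (n + 1) m p, x - dd A (n + 1) m p y ∈
      Ideal.span (Set.range (gg a)) • (⊤ : Submodule P (DD A (n + 1) m (p + 1))) := by
  rw [← II_eq] at hx ⊢
  refine exact_mod (List.ofFn (gg a)) (DD A (n + 1) m) (dd A (n + 1) m) (exact_dd hm) ?_ p x hx
  intro q i j k hij hjk hj
  refine exact_lTensor_pi _ _ ?_ fun t => exact_W a ha (i := t 0) (Finset.mem_image_of_mem _ (Finset.mem_univ _)) m i j k hij hjk hj
  exact congrArg ModuleCat.Hom.hom ((KK (List.ofFn (gg a))).d_comp_d i j k)

end

end GrothLib.BlowCoh8
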