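import Groth.Agent.Lib.BlowCoh8.Resolution
import Groth.Agent.Lib.Euler.Divisor
import Groth.Agent.Lib.ProjFormula.Iso
import Groth.Agent.Lib.ProjFormula.Flasque
import Groth.Agent.Lib.HodgeIndex.IdealMul
import Groth.Agent.Lib.Nagata6.Comp

/-!
# Higher direct images of twists of the exceptional divisor
-/

set_option autoImplicit false
set_option backward.isDefEq.respectTransparency false
set_option linter.style.haveILetI false

universe u

open CategoryTheory CategoryTheory.Limits AlgebraicGeometry

namespace GrothLib.BlowCoh8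

noncomputable section

variable {X X' : Scheme.{u}} {f : X' ⟶ X}

/-- Vanishing on a locally free module and on its twist by an ideal gives vanishing on its restriction. -/
theorem isZero_restrict (E : X'.IdealSheafData) {M : X'.Modules} (hM : FlatMod.IsFinLocFree M) (k : ℕ)
    (h1 : IsZero ((Coh.RpushAb f (k + 1)).obj (Coh.toAb M)))
    (h2 : IsZero ((Coh.RpushAb f (k + 2)).obj (Coh.toAb (CohB1.tensorMod M (ClSub.idealMod E))))) :
    IsZero ((Coh.RpushAb f (k + 1)).obj (Coh.toAb
      ((Scheme.Modules.pushforward E.subschemeι).obj ((Scheme.Modules.pullback E.subschemeι).obj M)))) := by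
  haveI : IsGrothendieckAbelian.{u} X'.Modules := GrothLib.SheafCoh.isGrothendieckAbelian_sheafOfModules _
  haveI : PreservesLimitsOfSize.{0, 0} (Scheme.Modules.pushforward f) :=
    (Scheme.Modules.pullbackPushforwardAdjunction f).rightAdjoint_preservesLimits
  haveI : PreservesFiniteLimits (Scheme.Modules.pushforward f) := PreservesLimits.preservesFiniteLimits _
  let T := (DCoh.tensorBi (X := X')).obj M
  have : PreservesColimitsOfSize.{0, 0} T := preservesColimitsOfSize_shrink _
  have : PreservesFiniteColimits T := PreservesColimits.preservesFiniteColimits T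
  have : PreservesFiniteLimits T :=
    GrothLib.ProjFormula.preservesFiniteLimits_tensorBi_obj (GrothLib.OX.flat_of_isFinLocFree hM)
  let S := ShortComplex.mk (ClSub.idealModι E) (ClSub.toSubscheme E) (kernel.condition _)
  haveI : Mono S.f := inferInstanceAs (Mono (kernel.ι (ClSub.toSubscheme E)))
  haveI : Epi S.g := GrothLib.Euler.epi_toSubscheme E
  have hS : S.ShortExact := { exact := ShortComplex.exact_of_f_is_kernel _ (kernelIsKernel _) }
  have hT : (S.map T).ShortExact := hS.map_of_exact T
  let e₂ : T.obj (Coh.structureModule X') ≅ M := GrothLib.Euler.tFUnitIso M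
  haveI := GrothLib.ProjFormula.isIso_projHom E.subschemeι hM (Coh.structureModule E.subscheme)
  let e₃ : T.obj (ClSub.quotMod E) ≅
      (Scheme.Modules.pushforward E.subschemeι).obj ((Scheme.Modules.pullback E.subschemeι).obj M) :=
    asIso (GrothLib.ProjFormula.projHom E.subschemeι M (Coh.structureModule E.subscheme)) ≪≫
      (Scheme.Modules.pushforward E.subschemeι).mapIso (GrothLib.Euler.tFUnitIso _)
  rw [isZero_RpushAb_iff] at h1 h2 ⊢
  refine IsZero.of_iso ?_ (((Scheme.Modules.pushforward f).rightDerived (k + 1)).mapIso e₃.symm)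
  exact GrothLib.GrothSS.isZero_rightDerived_X₃ (Scheme.Modules.pushforward f) k _ hT h2
    (h1.of_iso (((Scheme.Modules.pushforward f).rightDerived (k + 1)).mapIso e₂))

variable {J : X.IdealSheafData}

/-- **The twists `O_D(n)`, `n ≥ 0`, have no higher direct images.** -/
theorem isZero_twists (hJ : IsLocSeq J) (hf : _root_.BlowUp.IsBlowUp f J) (n p : ℕ) (hp : 1 ≤ p) :
    IsZero ((Coh.RpushAb f p).obj (Coh.toAb
      ((Scheme.Modules.pushforward (J.comap f).subschemeι).obj
        ((Scheme.Modules.pullback (J.comap f).subschemeι).obj (ClSub.idealMod ((J.comap f) ^ n)))))) := by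
  obtain ⟨k, rfl⟩ : ∃ k, p = k + 1 := ⟨p - 1, by omega⟩
  have hi : ∀ m, PicF.IsInvertible (ClSub.idealMod ((J.comap f) ^ m)) := fun m =>
    GrothLib.IdealModSec.isInvertible_of_isEffCartier (GrothLib.Nagata6.isEffCartierIdeal_pow hf.1 m)
  have hz : ∀ m q, 1 ≤ q → IsZero ((Coh.RpushAb f q).obj (Coh.toAb (ClSub.idealMod ((J.comap f) ^ m)))) := fun m q hq => by
    haveI := GrothLib.H1Sheaf6.isQuasicoherent_idealMod ((J.comap f) ^ m)
    exact isZero_RpushAb hJ hf _ m (fun U => isPowerAt_idealMod m U) q hq
  obtain ⟨e⟩ := GrothLib.HodgeIndex.nonempty_idealMod_mul (hi n) (GrothLib.IdealModSec.isInvertible_of_isEffCartier hf.1)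
  refine isZero_restrict _ (GrothLib.Euler.isFinLocFree_of_isInvertible (hi n)) k (hz n _ (by omega)) ?_
  haveI := hasInjectiveResolutions X'
  have h := (isZero_RpushAb_iff (f := f) _ (k + 2)).1 (hz (n + 1) (k + 2) (by omega))
  rw [pow_succ] at h
  rw [isZero_RpushAb_iff]
  exact h.of_iso ((Coh.Rpush f (k + 2)).mapIso e)

end

end GrothLib.BlowCoh8
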