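import Groth.Agent.Lib.BlowCoh8.Eval
import Groth.Agent.Lib.Nagata6.Charts
import Groth.Agent.Lib.BlowPB8.Chart
import Groth.Prelude.Def_Coh

/-!
# The pieces of the blow-up of an affine scheme in a Koszul regular sequence
-/

set_option autoImplicit false
set_option backward.isDefEq.respectTransparency false
set_option linter.style.haveILetI false

universe u

open CategoryTheory AlgebraicGeometry TopologicalSpace Opposite
open GrothLib.InvExt (fres)

namespace GrothLib.BlowCoh8

open GrothLib.BlowUp17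

noncomputable section

variable {A : Type u} [CommRing A] {Y : Scheme.{u}} (f : Y ⟶ Spec (CommRingCat.of A))
  {n : ℕ} (a : Fin (n + 1) → A)

/-- The structure map on an open. -/
def phi (W : Y.Opens) : A →+* Γ(Y, W) :=
  (f.appLE ⊤ W le_top).hom.comp (Scheme.ΓSpecIso (CommRingCat.of A)).inv.hom

theorem phi_res {W W' : Y.Opens} (h : W' ≤ W) :
    ((Y.presheaf.map (homOfLE h).op).hom).comp (phi f W) = phi f W' := by
  ext r
  exact congr($(f.appLE_map le_top (homOfLE h).op) ((Scheme.ΓSpecIso (CommRingCat.of A)).inv r))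

theorem mem_basicOpen_of_sum {W : Y.Opens} {ι : Type} [Fintype ι] (d r : ι → Γ(Y, W)) (h : ∑ k, d k * r k = 1)
    {x : Y} (hx : x ∈ W) : ∃ k, x ∈ Y.basicOpen (r k) := by
  by_contra! hh
  have h1 : (Y.presheaf.germ W x hx).hom (∑ k, d k * r k) ∈ IsLocalRing.maximalIdeal (Y.presheaf.stalk x) := by
    rw [map_sum]
    refine Ideal.sum_mem _ fun k _ => ?_
    rw [map_mul]
    refine Ideal.mul_mem_left _ _ ?_
    rw [IsLocalRing.mem_maximalIdeal]
    exact fun hu => hh k ((Y.mem_basicOpen _ x hx).2 hu)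
  rw [h, map_one] at h1
  exact ((IsLocalRing.maximalIdeal.isMaximal _).ne_top) ((Ideal.eq_top_iff_one _).2 h1)

/-- The standard charts. -/
structure Charts where
  V : Fin (n + 1) → Y.Opens
  affine : ∀ i, IsAffineOpen (V i)
  cover : ∀ x : Y, ∃ i, x ∈ V i
  good : ∀ i, Good a (phi f (V i)) {i}
  num : ∀ i z, ∃ (m : ℕ) (x : A), x ∈ ctr a ^ m ∧ phi f (V i) x = z * phi f (V i) (a i) ^ m
  ker : ∀ i x, phi f (V i) x = 0 → ∃ M : ℕ, a i ^ M * x = 0
  overlap : ∀ i k (r : Γ(Y, V i)), phi f (V i) (a k) = r * phi f (V i) (a i) → Y.basicOpen r ≤ V k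

theorem exists_charts (hf : _root_.BlowUp.IsBlowUp f (GrothLib.BlowUp.idealSheaf (ctr a))) :
    Nonempty (Charts f a) := by
  classical
  let X := Spec (CommRingCat.of A)
  let U : X.affineOpens := ⟨⊤, isAffineOpen_top _⟩
  let ι : A →+* Γ(X, ⊤) := (Scheme.ΓSpecIso (CommRingCat.of A)).inv.hom
  have hι : Function.Bijective ι :=
    ConcreteCategory.bijective_of_isIso (Scheme.ΓSpecIso (CommRingCat.of A)).inv
  let J := GrothLib.BlowUp.idealSheaf (ctr a)
  have hJ : J.ideal U = (ctr a).map ι := GrothLib.BlowUp.ideal_idealSheaf_top _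
  obtain ⟨V', hVU, hgen, hnum, hcov, hbas⟩ := GrothLib.Nagata6.exists_charts hf U
  let g : Fin (n + 1) → J.ideal U := fun i => ⟨ι (a i), hJ ▸ Ideal.mem_map_of_mem _ (Ideal.subset_span ⟨i, rfl⟩)⟩
  have hmem : ∀ (h y : J.ideal U), ∃ r, f.appLE U.1 (V' h).1 (hVU h) (y : Γ(X, U.1)) =
      r * f.appLE U.1 (V' h).1 (hVU h) (h : Γ(X, U.1)) := fun h y => by
    have h1 : f.appLE U.1 (V' h).1 (hVU h) (y : Γ(X, U.1)) ∈ (J.comap f).ideal (V' h) := by
      rw [GrothLib.BlowUp.ideal_comap_eq_map J f U (V' h) (hVU h)]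
      exact Ideal.mem_map_of_mem _ y.2
    rw [(hgen h).2] at h1
    obtain ⟨r, hr⟩ := Ideal.mem_span_singleton'.1 h1
    exact ⟨r, hr.symm⟩
  have hgood : ∀ i, Good a (phi f (V' (g i)).1) {i} := fun i =>
    ⟨fun j hj k => by rw [Finset.mem_singleton.1 hj]; exact hmem (g i) (g k),
      fun j hj => by rw [Finset.mem_singleton.1 hj]; exact (hgen (g i)).1⟩
  have hge : ∀ i, f ⁻¹ᵁ X.basicOpen (ι (a i)) ≤ (V' (g i)).1 := by
    intro i p hp
    obtain ⟨h, hh⟩ := hcov p (X.basicOpen_le _ hp)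
    obtain ⟨r, hr⟩ := hmem h (g i)
    refine hbas (g i) h r hr ?_
    have h2 : p ∈ Y.basicOpen (f.appLE U.1 (V' h).1 (hVU h) (ι (a i))) := by
      rw [Scheme.basicOpen_appLE]
      exact ⟨hh, hp⟩
    rw [show f.appLE U.1 (V' h).1 (hVU h) (ι (a i)) = _ from hr, Scheme.basicOpen_mul] at h2
    exact h2.1
  refine ⟨⟨fun i => (V' (g i)).1, fun i => (V' (g i)).2, fun x => ?_, hgood, fun i z => ?_, fun i x hx => ?_,
    fun i k r hr => hbas (g k) (g i) r hr⟩⟩
  · obtain ⟨h, hh⟩ := hcov x trivial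
    choose r hr using fun k => hmem h (g k)
    have h1 : (h : Γ(X, U.1)) ∈ Ideal.span (Set.range fun k => ι (a k)) := by
      refine (?_ : (ctr a).map ι ≤ Ideal.span (Set.range fun k => ι (a k))) (hJ.le h.2)
      rw [Ideal.map_span, ← Set.range_comp]
      rfl
    obtain ⟨d, hd⟩ := Ideal.mem_span_range_iff_exists_fun.1 h1
    have hs : ∑ k, f.appLE U.1 (V' h).1 (hVU h) (d k) * r k = 1 := by
      refine (mul_cancel_right_mem_nonZeroDivisors (hgen h).1).1 ?_
      rw [one_mul, Finset.sum_mul]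
      conv_rhs => rw [← hd, map_sum]
      exact Finset.sum_congr rfl fun k _ => by rw [map_mul, mul_assoc]; exact congrArg _ (hr k).symm
    obtain ⟨k, hk⟩ := mem_basicOpen_of_sum _ r hs hh
    exact ⟨k, hbas (g k) h (r k) (hr k) hk⟩
  · obtain ⟨m, y, hy, he⟩ := hnum (g i) z
    obtain ⟨x, rfl⟩ := hι.2 y
    refine ⟨m, x, ?_, he⟩
    rw [hJ, ← Ideal.map_pow] at hy
    obtain ⟨x', hx', he'⟩ := (Ideal.mem_map_iff_of_surjective ι hι.2).1 hy
    exact hι.1 he' ▸ hx'
  · obtain ⟨M, hM⟩ := GrothLib.BlowPB8.exists_pow_mul_eq_zero hf U (g i) (ι x) (hVU (g i)) (hge i) hx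
    exact ⟨M, hι.1 (by rw [map_mul, map_pow, map_zero]; exact hM)⟩

variable {f a} (C : Charts f a)

namespace Charts

theorem nzd_res {i : Fin (n + 1)} (g : Γ(Y, C.V i)) :
    phi f (Y.basicOpen g) (a i) ∈ nonZeroDivisors Γ(Y, Y.basicOpen g) := by
  haveI := (C.affine i).isLocalization_basicOpen g
  rw [← phi_res f (Y.basicOpen_le g)]
  exact IsLocalization.map_nonZeroDivisors_le (Submonoid.powers g) Γ(Y, Y.basicOpen g)
    ⟨_, (C.good i).nzd i (Finset.mem_singleton_self i), rfl⟩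

theorem basicOpen_ratio (i k : Fin (n + 1)) (r : Γ(Y, C.V i))
    (hr : phi f (C.V i) (a k) = r * phi f (C.V i) (a i)) : Y.basicOpen r = C.V i ⊓ C.V k := by
  refine le_antisymm (le_inf (Y.basicOpen_le r) (C.overlap i k r hr)) fun p hp => ?_
  obtain ⟨h, hle, hph⟩ := (C.affine i).exists_basicOpen_le ⟨p, hp.2⟩ hp.1
  obtain ⟨s, hs⟩ := (C.good k).div k (Finset.mem_singleton_self k) i
  have h1 := congrArg (Y.presheaf.map (homOfLE (Y.basicOpen_le h)).op).hom hr
  have h2 := congrArg (Y.presheaf.map (homOfLE hle).op).hom hs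
  rw [← RingHom.comp_apply, phi_res, map_mul, ← RingHom.comp_apply, phi_res] at h1
  rw [← RingHom.comp_apply, phi_res, map_mul, ← RingHom.comp_apply, phi_res, h1] at h2
  have hu : IsUnit ((Y.presheaf.map (homOfLE (Y.basicOpen_le h)).op).hom r) := by
    refine IsUnit.of_mul_eq_one ((Y.presheaf.map (homOfLE hle).op).hom s)
      ((mul_cancel_right_mem_nonZeroDivisors (C.nzd_res h)).1 ?_)
    rw [one_mul, mul_comm _ ((Y.presheaf.map (homOfLE hle).op).hom s), mul_assoc]
    exact h2.symm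
  have h3 := Y.basicOpen_of_isUnit hu
  rw [show Y.basicOpen ((Y.presheaf.map (homOfLE (Y.basicOpen_le h)).op).hom r) =
    Y.basicOpen h ⊓ Y.basicOpen r from Y.basicOpen_res r _] at h3
  exact (h3.ge hph).2

/-- The opens of the cover. -/
def W (S : Finset (Fin (n + 1))) : Y.Opens := S.inf C.V

theorem W_singleton (i : Fin (n + 1)) : C.W {i} = C.V i := Finset.inf_singleton

theorem W_anti {S T : Finset (Fin (n + 1))} (h : S ⊆ T) : C.W T ≤ C.W S := Finset.inf_mono h

theorem basicOpen_loc (i : Fin (n + 1)) (S : Finset (Fin (n + 1))) :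
    Y.basicOpen (evQ (C.good i) (loc i S)) = C.V i ⊓ C.W S := by
  classical
  induction S using Finset.induction_on with
  | empty =>
    rw [show loc (A := A) i (∅ : Finset (Fin (n + 1))) = 1 from Subtype.ext (by
      show mon (ratio i ∅) = 1
      simp [ratio, mon_zero]), map_one, Y.basicOpen_of_isUnit isUnit_one]
    simp [W]
  | insert k S hk ih =>
    have hk' : ee k - ee i ∈ Om {i} 0 := by
      refine ⟨fun l hl => ?_, by rw [tot_sub, tot_ee, tot_ee]; omega⟩
      by_contra h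
      have hli : l ≠ i := fun hh => h (Finset.mem_singleton.2 hh)
      rcases eq_or_ne l k with hlk | hlk
      · subst hlk; simp [ee, hli] at hl
      · simp [ee, hli, hlk] at hl
    obtain ⟨z, hz⟩ := exists_isVal (C.good i) hk'
    rw [show loc (A := A) i (insert k S) = ⟨mon (ee k - ee i), mon_mem_sup hk'⟩ * loc i S from Subtype.ext (by
      show mon (ratio i (insert k S)) = mon (ee k - ee i) * mon (ratio i S)
      rw [mon_mul, ratio, Finset.sum_insert hk]; rfl), map_mul, Y.basicOpen_mul, ih,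
      show evQ (C.good i) ⟨mon (ee k - ee i), mon_mem_sup hk'⟩ = z by
        show ev a (phi f (C.V i)) (AddMonoidAlgebra.single (ee k - ee i) 1) = z
        rw [ev_single, map_one, one_mul, val_eq (C.good i) hk'.1 hz]]
    have hr : phi f (C.V i) (a k) = z * phi f (C.V i) (a i) := by
      have h := isVal_add (C.good i) hk'.1 (ee_mem_Om {i} i).1 hz (isVal_ee i)
      rw [sub_add_cancel] at h
      exact isVal_unique (C.good i) (ee_mem_Om {i} k).1 (isVal_ee k) h
    rw [C.basicOpen_ratio i k z hr]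
    show _ = C.V i ⊓ (insert k S).inf C.V
    rw [Finset.inf_insert]
    exact le_antisymm
      (le_inf (inf_le_left.trans inf_le_left) (le_inf (inf_le_left.trans inf_le_right) (inf_le_right.trans inf_le_right)))
      (le_inf (le_inf inf_le_left (inf_le_right.trans inf_le_left)) (le_inf inf_le_left (inf_le_right.trans inf_le_right)))

theorem W_eq_basicOpen {i : Fin (n + 1)} {S : Finset (Fin (n + 1))} (hi : i ∈ S) :
    C.W S = Y.basicOpen (evQ (C.good i) (loc i S)) := by
  rw [basicOpen_loc]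
  exact (inf_eq_right.2 (Finset.inf_le hi)).symm

theorem affine_W {S : Finset (Fin (n + 1))} (hS : S.Nonempty) : IsAffineOpen (C.W S) := by
  obtain ⟨i, hi⟩ := hS
  rw [C.W_eq_basicOpen hi]
  exact (C.affine i).basicOpen _

theorem good_W (S : Finset (Fin (n + 1))) : Good a (phi f (C.W S)) S := by
  refine ⟨fun j hj k => ?_, fun j hj => ?_⟩
  · obtain ⟨r, hr⟩ := (C.good j).div j (Finset.mem_singleton_self j) k
    refine ⟨(Y.presheaf.map (homOfLE (Finset.inf_le hj : C.W S ≤ C.V j)).op).hom r, ?_⟩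
    have h := congrArg (Y.presheaf.map (homOfLE (Finset.inf_le hj : C.W S ≤ C.V j)).op).hom hr
    rwa [map_mul, ← RingHom.comp_apply, ← RingHom.comp_apply, phi_res] at h
  · rw [C.W_eq_basicOpen hj]
    exact C.nzd_res _

theorem surjective_ker_W (ha : LCI.IsKoszulRegularSeq A (List.ofFn a)) {i : Fin (n + 1)}
    {S : Finset (Fin (n + 1))} (hi : i ∈ S) :
    Function.Surjective (evQ (C.good_W S)) ∧
      RingHom.ker (evQ (C.good_W S)) = (Ideal.span (Set.range (gg a))).map
        (algebraMap (MvPolynomial (Fin (n + 1)) A) (Q A S)) := by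
  obtain ⟨hs, hk⟩ := chart_surjective_ker a i (phi f (C.V i)) ha (C.good i) (C.num i) (C.ker i)
  have hle : C.W S ≤ C.V i := Finset.inf_le hi
  letI : Algebra Γ(Y, C.V i) Γ(Y, C.W S) := (Y.presheaf.map (homOfLE hle).op).hom.toAlgebra
  haveI : IsLocalization.Away (evQ (C.good i) (loc i S)) Γ(Y, C.W S) :=
    (C.affine i).isLocalization_of_eq_basicOpen _ (homOfLE hle) (C.W_eq_basicOpen hi)
  have hcomp : (algebraMap Γ(Y, C.V i) Γ(Y, C.W S)).comp (phi f (C.V i)) = phi f (C.W S) := phi_res f hle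
  have key : ∀ (φ : A →+* Γ(Y, C.W S)) (h' : Good a φ S), φ = (algebraMap Γ(Y, C.V i) Γ(Y, C.W S)).comp (phi f (C.V i)) →
      Function.Surjective (evQ h') ∧ RingHom.ker (evQ h') = (Ideal.span (Set.range (gg a))).map
        (algebraMap (MvPolynomial (Fin (n + 1)) A) (Q A S)) := by
    rintro _ h' rfl
    exact piece_surjective_ker a i _ (C.good i) hs hk hi h' _ rfl
  exact key _ _ hcomp.symm

end Charts

end

end GrothLib.BlowCoh8
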