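import Groth.Agent.Lib.BlowCoh8.Vanish
import Groth.Agent.Lib.RelVanish.Basic
import Groth.Agent.Lib.Nagata6.ExtendIdeal
import Groth.Agent.Lib.ArSurf29.FactorBlowUpIso
import Groth.Agent.Lib.IdealModSec.Basic
import Groth.Agent.Lib.BlowUpProper.Basic

/-!
# Cohomology of a blow-up above an affine open with a Koszul regular sequence
-/

set_option autoImplicit false
set_option backward.isDefEq.respectTransparency false
set_option linter.style.haveILetI false

universe u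

open CategoryTheory CategoryTheory.Limits AlgebraicGeometry TopologicalSpace Opposite Abelian
open GrothLib.Cohom

namespace GrothLib.BlowCoh8

open GrothLib.BlowUp17

noncomputable section

variable {X X' : Scheme.{u}} {J : X.IdealSheafData} {f : X' ⟶ X} (U : X.affineOpens)
  {n : ℕ} (a : Fin (n + 1) → Γ(X, U.1))

theorem isBlowUp_affBase (hf : _root_.BlowUp.IsBlowUp f J) (hJU : J.ideal U = ctr a) :
    _root_.BlowUp.IsBlowUp (BCCoh.affBase f U.2) (GrothLib.BlowUp.idealSheaf (ctr a)) := by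
  let e : ((f ⁻¹ᵁ U.1 : X'.Opens) : Scheme.{u}) ⟶ pullback U.2.fromSpec f :=
    pullback.lift ((f ∣_ U.1) ≫ U.2.isoSpec.hom) (f ⁻¹ᵁ U.1).ι (by
      rw [Category.assoc, ← morphismRestrict_ι]
      congr 1
      exact U.2.isoSpec_hom_fromSpec)
  have sq : IsPullback ((f ∣_ U.1) ≫ U.2.isoSpec.hom) (f ⁻¹ᵁ U.1).ι U.2.fromSpec f :=
    IsPullback.of_iso (isPullback_morphismRestrict f U.1) (Iso.refl _) U.2.isoSpec (Iso.refl _) (Iso.refl _)
      (by simp) (by simp) (by simp [U.2.isoSpec_hom_fromSpec]) (by simp)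
  haveI : IsIso e := by
    have : e = sq.isoPullback.hom := pullback.hom_ext (by simp [e]) (by simp [e])
    rw [this]; infer_instance
  have hbl := GrothLib.BlowUp.isBlowUp_flat_baseChange U.2.fromSpec hf
  rw [GrothLib.Nagata6.comap_fromSpec, hJU] at hbl
  have h := GrothLib.ArSurf29.isBlowUp_iso_comp hbl e
  rwa [show e ≫ pullback.fst U.2.fromSpec f = BCCoh.affBase f U.2 from pullback.lift_fst _ _ _] at h

theorem appLE_affBase (V : ((f ⁻¹ᵁ U.1 : X'.Opens) : Scheme.{u}).Opens)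
    (hV : (f ⁻¹ᵁ U.1).ι ''ᵁ V ≤ f ⁻¹ᵁ U.1) (r : Γ(X, U.1)) :
    phi (BCCoh.affBase f U.2) V r =
      ((f ⁻¹ᵁ U.1).ι.appIso V).hom (f.appLE U.1 ((f ⁻¹ᵁ U.1).ι ''ᵁ V) hV r) := by
  have hsq : BCCoh.affBase f U.2 ≫ U.2.fromSpec = (f ⁻¹ᵁ U.1).ι ≫ f := by
    rw [Category.assoc, U.2.isoSpec_hom_fromSpec, morphismRestrict_ι]
  have hfs : U.2.fromSpec.appLE U.1 ⊤ U.2.fromSpec_preimage_self.ge ≫
      (BCCoh.affBase f U.2).appLE ⊤ V le_top =
      f.appLE U.1 ((f ⁻¹ᵁ U.1).ι ''ᵁ V) hV ≫ ((f ⁻¹ᵁ U.1).ι.appIso V).hom := by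
    rw [Scheme.Hom.appIso_hom', Scheme.Hom.appLE_comp_appLE, Scheme.Hom.appLE_comp_appLE]
    simp only [hsq]
  rw [GrothLib.Nagata6.appLE_fromSpec] at hfs
  exact congr($hfs r)

theorem image_le (V : ((f ⁻¹ᵁ U.1 : X'.Opens) : Scheme.{u}).Opens) :
    (f ⁻¹ᵁ U.1).ι ''ᵁ V ≤ f ⁻¹ᵁ U.1 :=
  ((f ⁻¹ᵁ U.1).ι.image_mono (le_top : V ≤ ⊤)).trans (f ⁻¹ᵁ U.1).ι_image_top.le

/-- A module inside the functions which is the `m`-th power of the exceptional ideal. -/
structure IsPowerAt (J : X.IdealSheafData) (f : X' ⟶ X) (U : X.affineOpens) {G : X'.Modules}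
    (ι : G ⟶ Coh.structureModule X') (m : ℕ) : Prop where
  inj : ∀ V : X'.Opens, Function.Injective (ι.app V)
  range : ∀ V : X'.affineOpens, V.1 ≤ f ⁻¹ᵁ U.1 → ∀ b : Γ(X', V.1), b ∈ nonZeroDivisors Γ(X', V.1) →
    (J.comap f).ideal V = Ideal.span {b} → ∀ y : Γ(X', V.1),
      ((∃ x : Γ(G, V.1), (show Γ(X', V.1) from ι.app V.1 x) = y) ↔ y ∈ Ideal.span {b ^ m})

variable {U a}

/-- **Higher cohomology vanishes above the affine open.** -/
theorem subsingleton_ext (hf : _root_.BlowUp.IsBlowUp f J) (hJU : J.ideal U = ctr a)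
    (ha : LCI.IsKoszulRegularSeq Γ(X, U.1) (List.ofFn a)) {G : X'.Modules} [G.IsQuasicoherent]
    (ι : G ⟶ Coh.structureModule X') (m : ℕ) (hP : IsPowerAt J f U ι m) (p : ℕ) :
    Subsingleton (Ext.{u} (freeFun.obj (f ⁻¹ᵁ U.1)) (Coh.toAb G) (p + 1)) := by
  let j := (f ⁻¹ᵁ U.1).ι
  obtain ⟨C⟩ := exists_charts (BCCoh.affBase f U.2) a (isBlowUp_affBase U a hf hJU)
  let ι' : G.restrict j ⟶ Coh.structureModule ((f ⁻¹ᵁ U.1 : X'.Opens) : Scheme.{u}) :=
    (Scheme.Modules.restrictFunctor j).map ι ≫ (Scheme.Modules.restrictUnitIso j).hom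
  have hto : ∀ V x, toO (f := BCCoh.affBase f U.2) ι' V x =
      (j.appIso V).hom (show Γ(X', j ''ᵁ V) from ι.app (j ''ᵁ V) x) := fun V x => rfl
  have hP' : IsPower C ι' m := by
    refine ⟨fun V x y hxy => ?_, fun S i hi V hV y => ?_⟩
    · rw [hto, hto] at hxy
      exact hP.inj (j ''ᵁ V) ((ConcreteCategory.bijective_of_isIso (j.appIso V).hom).1 hxy)
    subst hV
    let V' : X'.affineOpens := ⟨j ''ᵁ C.W S, (C.affine_W ⟨i, hi⟩).image_of_isOpenImmersion j⟩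
    have hle : V'.1 ≤ f ⁻¹ᵁ U.1 := image_le U (C.W S)
    have hσ : Function.Bijective (j.appIso (C.W S)).hom :=
      ConcreteCategory.bijective_of_isIso (j.appIso (C.W S)).hom
    let b : Γ(X', V'.1) := f.appLE U.1 V'.1 hle (a i)
    have hb : ∀ k, phi (BCCoh.affBase f U.2) (C.W S) (a k) =
        (j.appIso (C.W S)).hom (f.appLE U.1 V'.1 hle (a k)) := fun k => appLE_affBase U (C.W S) hle (a k)
    have hnzd : b ∈ nonZeroDivisors Γ(X', V'.1) := by
      rw [mem_nonZeroDivisors_iff_right]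
      intro z hz
      refine hσ.1 ?_
      rw [map_zero]
      refine (mem_nonZeroDivisors_iff_right.mp ((C.good_W S).nzd i hi)) _ ?_
      rw [hb, ← map_mul, hz, map_zero]
    have hspan : (J.comap f).ideal V' = Ideal.span {b} := by
      rw [GrothLib.BlowUp.ideal_comap_eq_map J f U V' hle, hJU, Ideal.map_span]
      refine le_antisymm (Ideal.span_le.2 ?_) (Ideal.span_mono ?_)
      · rintro _ ⟨_, ⟨k, rfl⟩, rfl⟩
        obtain ⟨r, hr⟩ := (C.good_W S).div i hi k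
        obtain ⟨r', rfl⟩ := hσ.2 r
        rw [hb, hb, ← map_mul] at hr
        exact Ideal.mem_span_singleton'.2 ⟨r', (hσ.1 hr).symm⟩
      · rintro _ rfl
        exact ⟨a i, ⟨i, rfl⟩, rfl⟩
    constructor
    · rintro ⟨x, rfl⟩
      have h1 := (hP.range V' hle b hnzd hspan _).1 ⟨x, rfl⟩
      obtain ⟨z, hz⟩ := Ideal.mem_span_singleton'.1 h1
      refine Ideal.mem_span_singleton'.2 ⟨(j.appIso (C.W S)).hom z, ?_⟩
      rw [hb, ← map_pow, ← map_mul, hto]
      exact congrArg _ hz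
    · intro hy
      obtain ⟨z, rfl⟩ := Ideal.mem_span_singleton'.1 hy
      obtain ⟨z', rfl⟩ := hσ.2 z
      obtain ⟨x, hx⟩ := (hP.range V' hle b hnzd hspan (z' * b ^ m)).2 (Ideal.mem_span_singleton'.2 ⟨z', rfl⟩)
      refine ⟨x, ?_⟩
      rw [hto, hb, ← map_pow, ← map_mul]
      exact congrArg _ hx
  have hG : (G.restrict j).IsQuasicoherent := inferInstance
  haveI := subsingleton_HH C ι' m hP' hG ha p
  haveI : Subsingleton (Coh.HHon X' G (f ⁻¹ᵁ U.1) (p + 1)) := this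
  obtain ⟨e⟩ := Cohom.nonempty_HHon_equiv G (f ⁻¹ᵁ U.1) (p + 1)
  exact e.symm.toEquiv.subsingleton

/-- **The functions above the affine open are those of the open.** -/
theorem bijective_app (hf : _root_.BlowUp.IsBlowUp f J) (hJU : J.ideal U = ctr a)
    (ha : LCI.IsKoszulRegularSeq Γ(X, U.1) (List.ofFn a)) : Function.Bijective (f.app U.1) := by
  let j := (f ⁻¹ᵁ U.1).ι
  obtain ⟨C⟩ := exists_charts (BCCoh.affBase f U.2) a (isBlowUp_affBase U a hf hJU)
  have h1 := bijective_toGlobal C ha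
  have hσ : Function.Bijective (j.appIso ⊤).hom := ConcreteCategory.bijective_of_isIso (j.appIso ⊤).hom
  have h2 : Function.Bijective fun r => f.appLE U.1 (j ''ᵁ ⊤) (image_le U ⊤) r := by
    refine (Function.Bijective.of_comp_iff' hσ _).1 ?_
    convert h1 using 1
    funext r
    exact (appLE_affBase U ⊤ _ r).symm
  have hW : j ''ᵁ ⊤ = f ⁻¹ᵁ U.1 := (f ⁻¹ᵁ U.1).ι_image_top
  have key : ∀ (W : X'.Opens) (hle : W ≤ f ⁻¹ᵁ U.1), W = f ⁻¹ᵁ U.1 →
      Function.Bijective (f.appLE U.1 W hle) → Function.Bijective (f.app U.1) := by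
    rintro _ hle rfl h
    rwa [Scheme.Hom.app_eq_appLE]
  exact key _ _ hW h2

end

end GrothLib.BlowCoh8
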