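import Groth.Agent.Lib.BlowCoh8.Double
import Mathlib.Algebra.MvPolynomial.Eval
import Mathlib.Algebra.MonoidAlgebra.Basic
import Mathlib.Algebra.MonoidAlgebra.Support
import Mathlib.Data.Fintype.BigOperators

/-!
# The Čech complex of the monomials of bounded denominators
-/

set_option autoImplicit false
set_option backward.isDefEq.respectTransparency false

universe u

open scoped Pointwise
open MvPolynomial

namespace GrothLib.BlowCoh8

noncomputable section

variable {A : Type u} [CommRing A] {c : ℕ}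

/-- Laurent polynomials. -/
abbrev Lau (A : Type u) [CommRing A] (c : ℕ) : Type u := AddMonoidAlgebra A (Fin c → ℤ)

/-- A unit vector. -/
def ee (k : Fin c) : Fin c → ℤ := Pi.single k 1

/-- A monomial. -/
def mon (e : Fin c → ℤ) : Lau A c := AddMonoidAlgebra.single e 1

/-- The total degree. -/
def tot (e : Fin c → ℤ) : ℤ := ∑ k, e k

/-- The exponents with negative entries only in `S` and total degree at least `n`. -/
def Om (S : Finset (Fin c)) (n : ℤ) : Set (Fin c → ℤ) :=
  {e | (∀ k, e k < 0 → k ∈ S) ∧ n ≤ tot e}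

theorem mon_mul (e e' : Fin c → ℤ) : mon (A := A) e * mon e' = mon (e + e') := by
  simp [mon, AddMonoidAlgebra.single_mul_single]

theorem mon_zero : mon (A := A) (0 : Fin c → ℤ) = 1 := rfl

theorem tot_add (e e' : Fin c → ℤ) : tot (e + e') = tot e + tot e' := Finset.sum_add_distrib

theorem tot_ee (k : Fin c) : tot (ee k) = 1 := by
  simp [tot, ee, Finset.sum_pi_single']

theorem tot_zero : tot (0 : Fin c → ℤ) = 0 := by simp [tot]

theorem zero_mem_Om (S : Finset (Fin c)) : (0 : Fin c → ℤ) ∈ Om S 0 :=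
  ⟨fun k h => absurd h (by simp), by rw [tot_zero]⟩

theorem ee_mem_Om (S : Finset (Fin c)) (k : Fin c) : ee k ∈ Om S 0 := by
  refine ⟨fun j h => absurd h ?_, by rw [tot_ee]; omega⟩
  rcases eq_or_ne j k with rfl | hj
  · simp [ee]
  · simp [ee, hj]

theorem add_mem_Om {S T U : Finset (Fin c)} {n m : ℤ} (hS : S ⊆ U) (hT : T ⊆ U) {e e' : Fin c → ℤ}
    (he : e ∈ Om S n) (he' : e' ∈ Om T m) : e + e' ∈ Om U (n + m) := by
  refine ⟨fun k hk => ?_, by rw [tot_add]; exact add_le_add he.2 he'.2⟩
  rcases lt_or_ge (e k) 0 with h | h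
  · exact hS (he.1 k h)
  · exact hT (he'.1 k (by simp at hk; omega))

/-- The combinations of the monomials of `Om S n`. -/
abbrev sup (A : Type u) [CommRing A] (S : Finset (Fin c)) (n : ℤ) : Submodule A (Lau A c) :=
  AddMonoidAlgebra.supported A A (Om S n)

theorem mon_mem_sup {S : Finset (Fin c)} {n : ℤ} {e : Fin c → ℤ} (he : e ∈ Om S n) :
    mon (A := A) e ∈ sup A S n := by
  rw [AddMonoidAlgebra.mem_supported]
  intro x hx
  have := Finsupp.support_single_subset hx
  rw [Finset.mem_singleton] at this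
  exact this ▸ he

theorem mul_mem_sup {S T U : Finset (Fin c)} {n m : ℤ} (hS : S ⊆ U) (hT : T ⊆ U) {x y : Lau A c}
    (hx : x ∈ sup A S n) (hy : y ∈ sup A T m) : x * y ∈ sup A U (n + m) := by
  classical
  rw [AddMonoidAlgebra.mem_supported] at hx hy ⊢
  intro e he
  obtain ⟨e₁, h₁, e₂, h₂, rfl⟩ := Finset.mem_add.1 (AddMonoidAlgebra.support_coeff_mul_subset x y he)
  exact add_mem_Om hS hT (hx h₁) (hy h₂)

theorem sup_mono {S T : Finset (Fin c)} {n m : ℤ} (h : S ⊆ T) (hnm : m ≤ n) : sup A S n ≤ sup A T m :=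
  AddMonoidAlgebra.supported_mono fun _ he => ⟨fun k hk => h (he.1 k hk), hnm.trans he.2⟩

/-- The substitution of the variables. -/
def toLau : MvPolynomial (Fin c) A →ₐ[A] Lau A c := MvPolynomial.aeval fun k => mon (ee k)

instance algLau : Algebra (MvPolynomial (Fin c) A) (Lau A c) := (toLau (A := A) (c := c)).toRingHom.toAlgebra

theorem smul_lau (p : MvPolynomial (Fin c) A) (x : Lau A c) : p • x = toLau p * x := rfl

instance towerLau : IsScalarTower A (MvPolynomial (Fin c) A) (Lau A c) :=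
  IsScalarTower.of_algebraMap_eq fun r => ((toLau (A := A) (c := c)).commutes r).symm

theorem toLau_mem_sup (p : MvPolynomial (Fin c) A) : toLau p ∈ sup A (∅ : Finset (Fin c)) 0 := by
  induction p using MvPolynomial.induction_on with
  | C r =>
    rw [← MvPolynomial.algebraMap_eq, AlgHom.commutes, Algebra.algebraMap_eq_smul_one, ← mon_zero]
    exact Submodule.smul_mem _ _ (mon_mem_sup (zero_mem_Om ∅))
  | add p q hp hq => rw [map_add]; exact Submodule.add_mem _ hp hq
  | mul_X p k hp =>
    rw [map_mul, show toLau (MvPolynomial.X k) = mon (A := A) (ee k) from MvPolynomial.aeval_X _ _]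
    simpa using mul_mem_sup (n := 0) (m := 0) (le_refl _) (le_refl _) hp (mon_mem_sup (ee_mem_Om ∅ k))

/-- The monomials with poles in `S` of degree at least `n`, over the polynomial ring. -/
def W (A : Type u) [CommRing A] (S : Finset (Fin c)) (n : ℤ) :
    Submodule (MvPolynomial (Fin c) A) (Lau A c) where
  carrier := sup A S n
  add_mem' := Submodule.add_mem _
  zero_mem' := Submodule.zero_mem _
  smul_mem' p x hx := by
    rw [smul_lau]
    simpa using mul_mem_sup (Finset.empty_subset S) (le_refl S) (toLau_mem_sup p) hx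

theorem mem_W {S : Finset (Fin c)} {n : ℤ} {x : Lau A c} : x ∈ W A S n ↔ x ∈ sup A S n := Iff.rfl

/-- The range of a tuple. -/
def rng {p : ℕ} (t : Fin p → Fin c) : Finset (Fin c) := Finset.univ.image t

theorem rng_comp_subset {p q : ℕ} (t : Fin p → Fin c) (g : Fin q → Fin p) : rng (t ∘ g) ⊆ rng t := by
  intro x hx
  simp [rng] at hx ⊢
  obtain ⟨j, hj⟩ := hx
  exact ⟨g j, hj⟩

theorem rng_cons {p : ℕ} (i : Fin c) (t : Fin p → Fin c) : rng (Fin.cons i t : Fin (p + 1) → Fin c) = insert i (rng t) := by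
  classical
  ext x
  simp [rng, Fin.exists_fin_succ, eq_comm]

variable (A c) in
/-- The terms of the complex. -/
abbrev DD (n : ℤ) (p : ℕ) : Type u := (t : Fin p → Fin c) → W A (rng t) n

variable (A c) in
/-- The differential. -/
def dd (n : ℤ) (p : ℕ) : DD A c n p →ₗ[MvPolynomial (Fin c) A] DD A c n (p + 1) :=
  LinearMap.pi fun t => ∑ j : Fin (p + 1), (-1 : ℤ) ^ (j : ℕ) •
    (Submodule.inclusion (fun x (hx : x ∈ W A (rng (t ∘ j.succAbove)) n) =>
      (sup_mono (rng_comp_subset t j.succAbove) le_rfl hx : x ∈ W A (rng t) n))).comp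
      (LinearMap.proj (R := MvPolynomial (Fin c) A) (φ := fun t : Fin p → Fin c => W A (rng t) n)
        (t ∘ j.succAbove))

theorem dd_apply (n : ℤ) (p : ℕ) (x : DD A c n p) (t : Fin (p + 1) → Fin c) :
    (dd A c n p x t : Lau A c) = ∑ j : Fin (p + 1), (-1 : ℤ) ^ (j : ℕ) • (x (t ∘ j.succAbove) : Lau A c) := by
  simp [dd]

/-- An index with non-negative exponent. -/
def pick (e : Fin c → ℤ) : Option (Fin c) :=
  if h : ∃ k, 0 ≤ e k then some h.choose else none

theorem pick_eq_some {e : Fin c → ℤ} {i : Fin c} (h : pick e = some i) : 0 ≤ e i := by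
  unfold pick at h
  split at h
  · next hh => exact (Option.some.inj h) ▸ hh.choose_spec
  · exact absurd h (by simp)

theorem pick_ne_none {n : ℤ} (hn : -(c : ℤ) < n) {S : Finset (Fin c)} {e : Fin c → ℤ}
    (he : e ∈ Om S n) : pick e ≠ none := by
  unfold pick
  split
  · simp
  · next hh =>
    push Not at hh
    exfalso
    have h : tot e ≤ ∑ _k : Fin c, (-1 : ℤ) := Finset.sum_le_sum fun k _ => by have := hh k; omega
    simp at h
    have := he.2
    omega

/-- The part of the monomials whose chosen index is `i`. -/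
def part (i : Fin c) (x : Lau A c) : Lau A c :=
  AddMonoidAlgebra.ofCoeff (x.coeff.filter fun e => pick e = some i)

theorem coeff_part (i : Fin c) (x : Lau A c) (e : Fin c → ℤ) :
    (part i x).coeff e = if pick e = some i then x.coeff e else 0 := by
  simp [part, Finsupp.filter_apply]

theorem part_add (i : Fin c) (x y : Lau A c) : part i (x + y) = part i x + part i y := by
  refine AddMonoidAlgebra.ext (Finsupp.ext fun e => ?_)
  simp only [AddMonoidAlgebra.coeff_add, Finsupp.add_apply, coeff_part]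
  split <;> simp

/-- `part` as an additive map. -/
def partHom (i : Fin c) : Lau A c →+ Lau A c where
  toFun := part i
  map_zero' := by refine AddMonoidAlgebra.ext (Finsupp.ext fun e => ?_); simp [coeff_part]
  map_add' := part_add i

theorem part_mem {i : Fin c} {S : Finset (Fin c)} {n : ℤ} {x : Lau A c} (hx : x ∈ sup A (insert i S) n) :
    part i x ∈ sup A S n := by
  classical
  rw [AddMonoidAlgebra.mem_supported'] at hx ⊢
  intro e he
  rw [coeff_part]
  split
  · next h =>
    refine hx e fun h' => he ⟨fun k hk => ?_, h'.2⟩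
    rcases Finset.mem_insert.1 (h'.1 k hk) with rfl | hkS
    · exact absurd (pick_eq_some h) (by omega)
    · exact hkS
  · rfl

theorem sum_part {n : ℤ} (hn : -(c : ℤ) < n) {S : Finset (Fin c)} {x : Lau A c} (hx : x ∈ sup A S n) :
    ∑ i, part i x = x := by
  refine AddMonoidAlgebra.ext (Finsupp.ext fun e => ?_)
  rw [AddMonoidAlgebra.coeff_sum, Finsupp.finsetSum_apply]
  simp only [coeff_part]
  by_cases he : e ∈ Om S n
  · obtain ⟨i, hi⟩ := Option.ne_none_iff_exists'.1 (pick_ne_none hn he)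
    rw [hi, Finset.sum_eq_single i (fun j _ hj => if_neg (fun h => hj (Option.some.inj h).symm))
      (fun h => absurd (Finset.mem_univ i) h), if_pos rfl]
  · rw [AddMonoidAlgebra.mem_supported'.1 hx e he]
    simp

/-- The homotopy. -/
def hh (n : ℤ) (p : ℕ) (x : DD A c n (p + 1)) : DD A c n p := fun t =>
  ⟨∑ i, partHom i (x (Fin.cons i t) : Lau A c), Submodule.sum_mem _ fun i _ => by
    have h : (x (Fin.cons i t) : Lau A c) ∈ sup A (rng (Fin.cons i t : Fin (p + 1) → Fin c)) n :=
      (x (Fin.cons i t)).2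
    exact part_mem (sup_mono (rng_cons i t).le le_rfl h)⟩

theorem hh_apply (n : ℤ) (p : ℕ) (x : DD A c n (p + 1)) (t : Fin p → Fin c) :
    (hh n p x t : Lau A c) = ∑ i, partHom i (x (Fin.cons i t) : Lau A c) := rfl

theorem cons_comp_succAbove_zero {p : ℕ} (i : Fin c) (t : Fin p → Fin c) :
    (Fin.cons i t : Fin (p + 1) → Fin c) ∘ (0 : Fin (p + 1)).succAbove = t := by
  funext l; simp

theorem cons_comp_succAbove_succ {p : ℕ} (i : Fin c) (t : Fin (p + 1) → Fin c) (j : Fin (p + 1)) :
    (Fin.cons i t : Fin (p + 2) → Fin c) ∘ j.succ.succAbove = Fin.cons i (t ∘ j.succAbove) := by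
  funext l
  refine Fin.cases ?_ (fun l => ?_) l <;> simp

theorem homotopy {n : ℤ} (hn : -(c : ℤ) < n) (p : ℕ) (x : DD A c n (p + 1)) :
    hh n (p + 1) (dd A c n (p + 1) x) + dd A c n p (hh n p x) = x := by
  funext t
  refine Subtype.ext ?_
  rw [Pi.add_apply, Submodule.coe_add, hh_apply, dd_apply]
  have h1 : ∀ i : Fin c, partHom i (dd A c n (p + 1) x (Fin.cons i t) : Lau A c) =
      part i (x t : Lau A c) -
        ∑ j : Fin (p + 1), (-1 : ℤ) ^ (j : ℕ) • partHom i (x (Fin.cons i (t ∘ j.succAbove)) : Lau A c) := by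
    intro i
    rw [dd_apply, map_sum, Fin.sum_univ_succ, sub_eq_add_neg, ← Finset.sum_neg_distrib]
    congr 1
    · simp only [Fin.val_zero, pow_zero, one_smul, cons_comp_succAbove_zero]
      rfl
    · refine Finset.sum_congr rfl fun j _ => ?_
      rw [cons_comp_succAbove_succ, map_zsmul, Fin.val_succ, pow_succ, mul_neg_one, neg_smul]
  simp only [h1, Finset.sum_sub_distrib, hh_apply, Finset.smul_sum]
  rw [Finset.sum_comm (s := (Finset.univ : Finset (Fin c))), sub_add_cancel]
  exact sum_part hn (x t).2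


theorem sum_sum_eq_zero {ι M : Type*} [AddCommGroup M] : ∀ (p : ℕ) (f : (Fin p → ι) → M)
    (t : Fin (p + 2) → ι), ∑ i : Fin (p + 2), (-1 : ℤ) ^ (i : ℕ) •
      ∑ j : Fin (p + 1), (-1 : ℤ) ^ (j : ℕ) • f ((t ∘ i.succAbove) ∘ j.succAbove) = 0 := by
  intro p
  induction p with
  | zero =>
    intro f t
    have h : ∀ g : Fin 0 → ι, f g = f (Fin.elim0) := fun g => congrArg f (Subsingleton.elim _ _)
    simp [Fin.sum_univ_succ, h]
  | succ p ih =>
    intro f t
    obtain ⟨a, t', rfl⟩ : ∃ a t', t = Fin.cons a t' := ⟨t 0, Fin.tail t, (Fin.cons_self_tail t).symm⟩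
    have e0 : ∀ {q : ℕ} (a : ι) (s : Fin (q + 1) → ι) (j : Fin (q + 1)),
        (Fin.cons a s : Fin (q + 2) → ι) ∘ j.succ.succAbove = Fin.cons a (s ∘ j.succAbove) := by
      intro q a s j
      funext l
      refine Fin.cases ?_ (fun l => ?_) l <;> simp
    have e1 : ∀ {q : ℕ} (a : ι) (s : Fin q → ι), (Fin.cons a s : Fin (q + 1) → ι) ∘ (0 : Fin (q + 1)).succAbove = s := by
      intro q a s; funext l; simp
    rw [Fin.sum_univ_succ]
    simp only [Fin.val_zero, pow_zero, one_smul, e0, e1]
    have h2 : ∀ i : Fin (p + 2), (-1 : ℤ) ^ ((i.succ : Fin (p + 3)) : ℕ) •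
        ∑ j : Fin (p + 2), (-1 : ℤ) ^ (j : ℕ) •
          f ((Fin.cons a (t' ∘ i.succAbove) : Fin (p + 2) → ι) ∘ j.succAbove) =
        -((-1 : ℤ) ^ (i : ℕ) • f (t' ∘ i.succAbove)) +
          (-1 : ℤ) ^ (i : ℕ) • ∑ j : Fin (p + 1), (-1 : ℤ) ^ (j : ℕ) •
            (fun g => f (Fin.cons a g)) ((t' ∘ i.succAbove) ∘ j.succAbove) := by
      intro i
      rw [Fin.sum_univ_succ]
      simp only [Fin.val_zero, pow_zero, one_smul, e0, e1, Fin.val_succ, pow_succ, mul_neg_one, neg_smul,
        smul_add, Finset.sum_neg_distrib, smul_neg, neg_neg]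
    rw [Finset.sum_congr rfl fun i _ => h2 i, Finset.sum_add_distrib, Finset.sum_neg_distrib,
      ih (fun g => f (Fin.cons a g)) t', add_zero, add_neg_cancel]

theorem dd_comp (n : ℤ) (p : ℕ) (x : DD A c n p) : dd A c n (p + 1) (dd A c n p x) = 0 := by
  funext t
  refine Subtype.ext ?_
  rw [dd_apply]
  simp only [dd_apply]
  exact sum_sum_eq_zero p (fun g => (x g : Lau A c)) t

theorem exact_dd {n : ℤ} (hn : -(c : ℤ) < n) (p : ℕ) : Function.Exact (dd A c n p) (dd A c n (p + 1)) := by
  intro x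
  refine ⟨fun hx => ⟨hh n p x, ?_⟩, fun ⟨y, hy⟩ => hy ▸ dd_comp n p y⟩
  have h := homotopy hn p x
  rw [hx] at h
  have h0 : hh n (p + 1) (0 : DD A c n (p + 2)) = 0 :=
    funext fun t => Subtype.ext (by rw [hh_apply]; simp)
  rwa [h0, zero_add] at h

end

end GrothLib.BlowCoh8
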