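import Groth.Agent.Lib.BlowCoh8.Main
import Groth.Agent.Lib.UnitLF26.Basic
import Groth.Agent.Lib.Euler.TensorSupport
import Groth.Agent.Lib.SheafCoh.ModGroth
import Groth.Agent.S0927
import Groth.Agent.S11319
import Mathlib.CategoryTheory.Abelian.GrothendieckCategory.EnoughInjectives

/-!
# Pullbacks of locally free modules to a blow-up in a Koszul regular centre
-/

set_option autoImplicit false
set_option backward.isDefEq.respectTransparency false
set_option linter.style.haveILetI false

universe u

open CategoryTheory CategoryTheory.Limits AlgebraicGeometry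

namespace GrothLib.BlowCoh8

noncomputable section

variable {X X' : Scheme.{u}} {J : X.IdealSheafData} {f : X' ⟶ X}

theorem hasInjectiveResolutions (Y : Scheme.{u}) : HasInjectiveResolutions Y.Modules := by
  haveI : IsGrothendieckAbelian.{u} Y.Modules := GrothLib.SheafCoh.isGrothendieckAbelian_sheafOfModules _
  infer_instance

theorem bijective_app_all (hJ : IsLocSeq J) (hf : _root_.BlowUp.IsBlowUp f J) (U : X.Opens) :
    Function.Bijective (f.app U) := by
  haveI := isIso_unitToPush hJ hf
  exact GrothLib.ZClosure.app_bijective_of_isIso (ClSub.unitToPush f) U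

theorem isIso_unit_locFree (hJ : IsLocSeq J) (hf : _root_.BlowUp.IsBlowUp f J) {E : X.Modules}
    (hE : FlatMod.IsFinLocFree E) :
    IsIso ((Scheme.Modules.pullbackPushforwardAdjunction f).unit.app E) :=
  GrothLib.UnitLF26.isIso_unit f (bijective_app_all hJ hf) hE

theorem isZero_RpushAb_iff [HasInjectiveResolutions X'.Modules] (M : X'.Modules) (q : ℕ) :
    IsZero ((Coh.RpushAb f q).obj (Coh.toAb M)) ↔ IsZero ((Coh.Rpush f q).obj M) := by
  obtain ⟨e⟩ := Groth.Agent.S11319.result f M q
  constructor
  · intro h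
    haveI : (QCoh.toAbFun X).Faithful := inferInstanceAs (SheafOfModules.toSheaf _).Faithful
    have h' : IsZero ((QCoh.toAbFun X).obj ((Coh.Rpush f q).obj M)) := h.of_iso e
    rw [IsZero.iff_id_eq_zero] at h' ⊢
    apply (QCoh.toAbFun X).map_injective
    rw [CategoryTheory.Functor.map_id, Functor.map_zero]
    exact h'
  · intro h
    exact ((QCoh.toAbFun X).map_isZero h).of_iso e.symm

theorem isZero_RpushAb_locFree (hJ : IsLocSeq J) (hf : _root_.BlowUp.IsBlowUp f J) {E : X.Modules}
    (hE : FlatMod.IsFinLocFree E) (q : ℕ) (hq : 1 ≤ q) :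
    IsZero ((Coh.RpushAb f q).obj (Coh.toAb ((Scheme.Modules.pullback f).obj E))) := by
  haveI := hasInjectiveResolutions X'
  rw [isZero_RpushAb_iff]
  have h0 := (isZero_RpushAb_iff (f := f) _ q).1 (isZero_RpushAb_structure hJ hf q hq)
  obtain ⟨e⟩ := Groth.Agent.S0927.result f (Coh.structureModule X') E hE q
  refine IsZero.of_iso ?_ ((Coh.Rpush f q).mapIso (GrothLib.Euler.tFUnitIso ((Scheme.Modules.pullback f).obj E)).symm ≪≫ e.symm)
  exact Functor.map_isZero ((DCoh.tensorBi (X := X)).obj E) h0

end

end GrothLib.BlowCoh8
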