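import Groth.Agent.Lib.BlowCoh8.Global
import Groth.Agent.Lib.Nagata6.Proper
import Groth.Agent.Lib.ZClos.Basic
import Groth.Agent.Lib.H1Sheaf6.Conormal
import Groth.Agent.Lib.OX.LocFreeTensor
import Groth.Agent.Lib.LCI6.Kinds
import Groth.Prelude.Def_RegImm

/-!
# Direct images along a blow-up in a Koszul regular centre
-/

set_option autoImplicit false
set_option backward.isDefEq.respectTransparency false
set_option linter.style.haveILetI false

universe u

open CategoryTheory CategoryTheory.Limits AlgebraicGeometry TopologicalSpace Opposite Abelian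
open GrothLib.Cohom

namespace GrothLib.BlowCoh8

open GrothLib.BlowUp17

noncomputable section

variable {X X' : Scheme.{u}} {J : X.IdealSheafData} {f : X' ⟶ X}

/-- An ideal sheaf is locally generated by a non-empty Koszul regular sequence, or is trivial. -/
def IsLocSeq (J : X.IdealSheafData) : Prop :=
  ∀ x : X, ∃ U : X.affineOpens, x ∈ U.1 ∧ ∃ (n : ℕ) (a : Fin (n + 1) → Γ(X, U.1)),
    LCI.IsKoszulRegularSeq Γ(X, U.1) (List.ofFn a) ∧ J.ideal U = ctr a

theorem IsLocSeq.basis (h : IsLocSeq J) (x : X) {W : X.Opens} (hx : x ∈ W) :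
    ∃ U : X.affineOpens, x ∈ U.1 ∧ U.1 ≤ W ∧ ∃ (n : ℕ) (a : Fin (n + 1) → Γ(X, U.1)),
      LCI.IsKoszulRegularSeq Γ(X, U.1) (List.ofFn a) ∧ J.ideal U = ctr a := by
  obtain ⟨U, hxU, n, a, ha, hJ⟩ := h x
  obtain ⟨g, hgW, hxg⟩ := U.2.exists_basicOpen_le ⟨x, hx⟩ hxU
  let ρ := (X.presheaf.map (homOfLE (X.basicOpen_le g)).op).hom
  refine ⟨⟨X.basicOpen g, U.2.basicOpen g⟩, hxg, hgW, n, ρ ∘ a, ?_, ?_⟩
  · have := GrothLib.KoszulColon.isKoszulRegularSeq_map ρ (GrothLib.BlowUp.flat_res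
      (U := U) (V := ⟨X.basicOpen g, U.2.basicOpen g⟩) (X.basicOpen_le g)) _ ha
    rwa [List.map_ofFn] at this
  · rw [← J.map_ideal (U := ⟨X.basicOpen g, U.2.basicOpen g⟩) (V := U) (X.basicOpen_le g), hJ, Ideal.map_span,
      ← Set.range_comp]
    rfl

theorem IsLocSeq.isFiniteType (h : IsLocSeq J) : _root_.BlowUp.IsFiniteTypeIdeal J := fun W => by
  choose U hxU n a ha hJ using h
  refine GrothLib.FgSupport6.fg_of_cover _ U (fun x => ⟨x, hxU x⟩) (fun x => ?_) W
  rw [hJ x]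
  classical
  exact ⟨Finset.univ.image (a x), by rw [Finset.coe_image, Finset.coe_univ, Set.image_univ]⟩

theorem isLocSeq_of_regularImmersion {Z : Scheme.{u}} (i : Z ⟶ X) [IsClosedImmersion i]
    (h : ∀ z : Z, ∃ U : X.affineOpens, i z ∈ U.1 ∧ ∃ rs : List Γ(X, U.1), rs ≠ [] ∧
      LCI.IsKoszulRegularSeq Γ(X, U.1) rs ∧ RingHom.ker (i.app U.1).hom = Ideal.ofList rs) :
    IsLocSeq i.ker := by
  intro x
  by_cases hx : x ∈ Set.range i
  · obtain ⟨z, rfl⟩ := hx
    obtain ⟨U, hU, rs, hne, hrs, hker⟩ := h z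
    obtain ⟨n, hn⟩ : ∃ n, rs.length = n + 1 := ⟨rs.length - 1, by have := List.length_pos_iff.2 hne; omega⟩
    have hl : List.ofFn (fun k : Fin (n + 1) => rs[(k : ℕ)]'(by omega)) = rs := by
      refine List.ext_getElem (by simp [hn]) fun k h1 h2 => ?_
      rw [List.getElem_ofFn]
    refine ⟨U, hU, n, fun k => rs[(k : ℕ)]'(by omega), by rwa [hl], ?_⟩
    rw [Scheme.Hom.ker_apply, hker]
    conv_lhs => rw [← hl]
    rw [Ideal.ofList, ctr]
    congr 1
    ext y
    rw [Set.mem_setOf_eq, List.mem_ofFn]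
    exact Iff.rfl
  · have hop : IsOpen (Set.range i)ᶜ := (i.isClosedEmbedding.isClosed_range).isOpen_compl
    obtain ⟨U, hxU, hU⟩ := GrothLib.BlowUp.exists_affine_mem_le (W := ⟨_, hop⟩) (show x ∈ (Set.range i)ᶜ from hx)
    refine ⟨U, hxU, 0, fun _ => 1, ?_, ?_⟩
    · exact GrothLib.LCI6.isKoszulRegularSeq_singleton 1 fun y hy => by rwa [one_mul] at hy
    · haveI : Subsingleton Γ(Z, i ⁻¹ᵁ U.1) := by
        have : i ⁻¹ᵁ U.1 = ⊥ := eq_bot_iff.2 fun z hz => (hU hz ⟨z, rfl⟩).elim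
        rw [this]
        infer_instance
      rw [Scheme.Hom.ker_apply, (Ideal.eq_top_iff_one (RingHom.ker (i.app U.1).hom)).2 (Subsingleton.elim _ _)]
      exact ((Ideal.eq_top_iff_one _).2 (Ideal.subset_span (Set.mem_range.2 ⟨0, rfl⟩))).symm

theorem isLocSeq_of_dense {Z : Scheme.{u}} (i : Z ⟶ X) [IsClosedImmersion i]
    (hi : RegImm.IsRegularImmersion .koszul i) (hdense : Dense (Set.range i)ᶜ) : IsLocSeq i.ker := by
  refine isLocSeq_of_regularImmersion i fun z => ?_
  obtain ⟨U, hU, -, rs, hrs, hker⟩ := hi.2 z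
  refine ⟨U, hU, rs, ?_, hrs, hker⟩
  rintro rfl
  rw [Ideal.ofList_nil] at hker
  obtain ⟨x, hxU, hx⟩ := hdense.inter_open_nonempty _ U.1.2 ⟨i z, hU⟩
  have hs : x ∈ i.ker.support := by
    rw [Scheme.IdealSheafData.mem_support_iff_of_mem (U := U) hxU, Scheme.Hom.ker_apply, hker,
      Scheme.mem_zeroLocus_iff]
    intro y hy
    rw [show y = 0 from hy, Scheme.basicOpen_zero]
    exact fun h => h
  rw [← SetLike.mem_coe, Scheme.Hom.support_ker, i.isClosedEmbedding.isClosed_range.closure_eq] at hs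
  exact hx hs

theorem isLocSeq_of_codim {Z : Scheme.{u}} [IsLocallyNoetherian X] (i : Z ⟶ X) [IsClosedImmersion i] {d : ℕ}
    (hd : 1 ≤ d) (hi : RegImm.IsRegularImmersionOfCodim .regular d i) : IsLocSeq i.ker := by
  refine isLocSeq_of_regularImmersion i fun z => ?_
  obtain ⟨U, hU, -, rs, hlen, hrs, hker⟩ := hi.2 z
  exact ⟨U, hU, rs, fun h => by rw [h] at hlen; simp at hlen; omega,
    GrothLib.KoszulFwd.isKoszulRegularSeq_of_isWeaklyRegular rs hrs.toIsWeaklyRegular, hker⟩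

/-- The powers of the exceptional ideal. -/
theorem isPowerAt_idealMod (m : ℕ) (U : X.affineOpens) :
    IsPowerAt J f U (ClSub.idealModι ((J.comap f) ^ m)) m := by
  refine ⟨fun V => GrothLib.IdealModSec.val_injective _ V, fun V _ b _ hb y => ?_⟩
  have e : ((J.comap f) ^ m).ideal V = Ideal.span {b ^ m} := by
    rw [Scheme.IdealSheafData.ideal_pow, Pi.pow_apply, hb, Ideal.span_singleton_pow]
  constructor
  · rintro ⟨x, rfl⟩
    exact e ▸ GrothLib.IdealModSec.val_mem _ V x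
  · intro hy
    exact GrothLib.IdealModSec.exists_val_eq _ V (e.ge hy)

/-- The functions themselves. -/
theorem isPowerAt_structure (U : X.affineOpens) :
    IsPowerAt J f U (𝟙 (Coh.structureModule X')) 0 := by
  refine ⟨fun V => Function.injective_id, fun V _ b _ _ y => ?_⟩
  rw [pow_zero, Ideal.span_singleton_one]
  exact ⟨fun _ => Submodule.mem_top, fun _ => ⟨y, rfl⟩⟩

theorem isProper_of_isLocSeq (hJ : IsLocSeq J) (hf : _root_.BlowUp.IsBlowUp f J) : IsProper f :=
  GrothLib.Nagata6.isProper_of_isBlowUp hJ.isFiniteType hf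

/-- **The higher direct images vanish.** -/
theorem isZero_RpushAb (hJ : IsLocSeq J) (hf : _root_.BlowUp.IsBlowUp f J) {G : X'.Modules} [G.IsQuasicoherent]
    (ι : G ⟶ Coh.structureModule X') (m : ℕ) (hP : ∀ U, IsPowerAt J f U ι m) (q : ℕ) (hq : 1 ≤ q) :
    IsZero ((Coh.RpushAb f q).obj (Coh.toAb G)) := by
  haveI := isProper_of_isLocSeq hJ hf
  obtain ⟨p, rfl⟩ : ∃ p, q = p + 1 := ⟨q - 1, by omega⟩
  choose U hxU n a ha hJU using hJ
  exact GrothLib.RelVanish.isZero_RpushAb_of_cover f G (p + 1) (fun x => (U x).1) (fun x => (U x).2)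
    (fun x => ⟨x, hxU x⟩) fun x => subsingleton_ext hf (hJU x) (ha x) ι m (hP _) p

theorem isZero_RpushAb_structure (hJ : IsLocSeq J) (hf : _root_.BlowUp.IsBlowUp f J) (q : ℕ) (hq : 1 ≤ q) :
    IsZero ((Coh.RpushAb f q).obj (Coh.toAb (Coh.structureModule X'))) := by
  haveI : (Coh.structureModule X').IsQuasicoherent := Cohom.isQuasicoherent_structureModule X'
  exact isZero_RpushAb hJ hf (𝟙 _) 0 (isPowerAt_structure) q hq

theorem isIso_unitToPush (hJ : IsLocSeq J) (hf : _root_.BlowUp.IsBlowUp f J) : IsIso (ClSub.unitToPush f) :=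
  GrothLib.ZClosure.isIso_of_basis _ fun x W hx => by
    obtain ⟨U, hxU, hUW, n, a, ha, hJU⟩ := hJ.basis x hx
    exact ⟨U.1, hxU, hUW, bijective_app hf hJU ha⟩

/-- **The unit is an isomorphism on the structure module.** -/
theorem isIso_unit (hJ : IsLocSeq J) (hf : _root_.BlowUp.IsBlowUp f J) :
    IsIso ((Scheme.Modules.pullbackPushforwardAdjunction f).unit.app (Coh.structureModule X)) := by
  haveI := isIso_unitToPush hJ hf
  let adj := Scheme.Modules.pullbackPushforwardAdjunction f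
  let e := GrothLib.OX.pullUnitIso f
  have h : adj.homEquiv _ _ e.hom = ClSub.unitToPush f := by
    refine Eq.trans ?_ (show SheafOfModules.unitToPushforwardObjUnit f.toRingCatSheafHom = ClSub.unitToPush f from rfl)
    exact SheafOfModules.pullbackPushforwardAdjunction_homEquiv_pullbackObjUnitToUnit f.toRingCatSheafHom
  rw [Adjunction.homEquiv_unit] at h
  have : IsIso (adj.unit.app (Coh.structureModule X) ≫ (Scheme.Modules.pushforward f).map e.hom) := by
    rw [h]; infer_instance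
  exact IsIso.of_isIso_comp_right _ ((Scheme.Modules.pushforward f).map e.hom)

end

end GrothLib.BlowCoh8
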