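import Groth.Agent.Lib.BlowCoh8.LocFree
import Groth.Agent.Lib.GrothSS.Acyclic
import Groth.Agent.Lib.DerCat.DimShiftRD

/-!
# Modules with a locally free resolution that stays exact on the blow-up
-/

set_option autoImplicit false
set_option backward.isDefEq.respectTransparency false
set_option linter.style.haveILetI false

universe u

open CategoryTheory CategoryTheory.Limits AlgebraicGeometry

namespace GrothLib.BlowCoh8

noncomputable section

/-- A morphism of short exact sequences which is invertible in the first two places is in the third. -/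
theorem isIso_τ₃ {C : Type*} [Category C] [Abelian C] {S₁ S₂ : ShortComplex C} (h₁ : S₁.ShortExact) (h₂ : S₂.ShortExact)
    (φ : S₁ ⟶ S₂) [IsIso φ.τ₁] [IsIso φ.τ₂] : IsIso φ.τ₃ := by
  have := h₁.epi_g
  have := h₂.epi_g
  have w : S₂.f ≫ inv φ.τ₂ ≫ S₁.g = 0 := by
    rw [← cancel_epi φ.τ₁, comp_zero, φ.comm₁₂_assoc, IsIso.hom_inv_id_assoc, S₁.zero]
  refine ⟨h₂.exact.desc (inv φ.τ₂ ≫ S₁.g) w, ?_, ?_⟩
  · rw [← cancel_epi S₁.g, ← φ.comm₂₃_assoc, h₂.exact.g_desc, IsIso.hom_inv_id_assoc, Category.comp_id]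
  · rw [← cancel_epi S₂.g, h₂.exact.g_desc_assoc, Category.assoc, ← φ.comm₂₃, IsIso.inv_hom_id_assoc, Category.comp_id]

variable {X X' : Scheme.{u}} {J : X.IdealSheafData} {f : X' ⟶ X}

theorem resolution (hJ : IsLocSeq J) (hf : _root_.BlowUp.IsBlowUp f J) (T : ShortComplex X.Modules) (hT : T.ShortExact)
    (h₁ : FlatMod.IsFinLocFree T.X₁) (h₂ : FlatMod.IsFinLocFree T.X₂)
    (hpull : (T.map (Scheme.Modules.pullback f)).ShortExact) :
    IsIso ((Scheme.Modules.pullbackPushforwardAdjunction f).unit.app T.X₃) ∧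
    ∀ p : ℕ, 1 ≤ p → IsZero ((Coh.RpushAb f p).obj (Coh.toAb ((Scheme.Modules.pullback f).obj T.X₃))) := by
  haveI : IsGrothendieckAbelian.{u} X'.Modules := GrothLib.SheafCoh.isGrothendieckAbelian_sheafOfModules _
  haveI : PreservesLimitsOfSize.{0, 0} (Scheme.Modules.pushforward f) :=
    (Scheme.Modules.pullbackPushforwardAdjunction f).rightAdjoint_preservesLimits
  haveI : PreservesFiniteLimits (Scheme.Modules.pushforward f) := PreservesLimits.preservesFiniteLimits _
  have hz : ∀ {E : X.Modules}, FlatMod.IsFinLocFree E → ∀ q, 1 ≤ q →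
      IsZero (((Scheme.Modules.pushforward f).rightDerived q).obj ((Scheme.Modules.pullback f).obj E)) :=
    fun hE q hq => (isZero_RpushAb_iff (f := f) _ q).1 (isZero_RpushAb_locFree hJ hf hE q hq)
  have hpush := GrothLib.HomGamma.shortExact_map_of_isZero (Scheme.Modules.pushforward f) hpull (hz h₁ 1 le_rfl)
  let adj := Scheme.Modules.pullbackPushforwardAdjunction f
  let φ : T ⟶ (T.map (Scheme.Modules.pullback f)).map (Scheme.Modules.pushforward f) :=
    { τ₁ := adj.unit.app T.X₁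
      τ₂ := adj.unit.app T.X₂
      τ₃ := adj.unit.app T.X₃
      comm₁₂ := (adj.unit.naturality T.f).symm
      comm₂₃ := (adj.unit.naturality T.g).symm }
  haveI : IsIso φ.τ₁ := isIso_unit_locFree hJ hf h₁
  haveI : IsIso φ.τ₂ := isIso_unit_locFree hJ hf h₂
  refine ⟨isIso_τ₃ hT hpush φ, fun p hp => ?_⟩
  obtain ⟨k, rfl⟩ : ∃ k, p = k + 1 := ⟨p - 1, by omega⟩
  rw [isZero_RpushAb_iff]
  exact GrothLib.GrothSS.isZero_rightDerived_X₃ (Scheme.Modules.pushforward f) k _ hpull
    (hz h₁ (k + 2) (by omega)) (hz h₂ (k + 1) (by omega))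

end

end GrothLib.BlowCoh8
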