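import Groth.Agent.Lib.BlowCoh8.Vanish
import Groth.Agent.Lib.InvExt.Gen

/-!
# Cohomology of the inverse of the exceptional ideal
-/

set_option autoImplicit false
set_option backward.isDefEq.respectTransparency false
set_option linter.style.haveILetI false

universe u

open CategoryTheory CategoryTheory.Limits AlgebraicGeometry TopologicalSpace Opposite
open GrothLib.InvExt (mres)

namespace GrothLib.BlowCoh8

open GrothLib.BlowUp17 GrothLib.KoszulColon

noncomputable section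

variable {A : Type u} [CommRing A] {Y : Scheme.{u}} {f : Y ⟶ Spec (CommRingCat.of A)}
  {n : ℕ} {a : Fin (n + 1) → A} (C : Charts f a)

theorem nzd_phi (h0 : a 0 ∈ nonZeroDivisors A) {S : Finset (Fin (n + 1))} {i : Fin (n + 1)} (hi : i ∈ S) :
    phi f (C.W S) (a 0) ∈ nonZeroDivisors Γ(Y, C.W S) := by
  haveI := (C.affine i).isLocalization_basicOpen (evQ (C.good i) (loc i S))
  have key : phi f (C.V i) (a 0) ∈ nonZeroDivisors Γ(Y, C.V i) := by
    rw [mem_nonZeroDivisors_iff_right]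
    intro z hz
    obtain ⟨m, x, -, hx⟩ := C.num i z
    have h1 : phi f (C.V i) (x * a 0) = 0 := by
      rw [map_mul, hx, mul_right_comm, hz, zero_mul]
    obtain ⟨M, hM⟩ := C.ker i _ h1
    rw [← mul_assoc] at hM
    have h2 : a i ^ M * x = 0 := (mem_nonZeroDivisors_iff_right.mp h0) _ hM
    have h3 := congrArg (phi f (C.V i)) h2
    rw [map_mul, map_pow, map_zero, hx, ← mul_assoc, mul_comm _ z, mul_assoc, ← pow_add] at h3
    exact (mem_nonZeroDivisors_iff_right.mp (pow_mem ((C.good i).nzd i (Finset.mem_singleton_self i)) _)) z h3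
  have h : ∀ V : Y.Opens, V = Y.basicOpen (evQ (C.good i) (loc i S)) → phi f V (a 0) ∈ nonZeroDivisors Γ(Y, V) := by
    rintro _ rfl
    rw [← phi_res f (Y.basicOpen_le _)]
    exact IsLocalization.map_nonZeroDivisors_le (Submonoid.powers (evQ (C.good i) (loc i S))) _ ⟨_, key, rfl⟩
  exact h _ (C.W_eq_basicOpen hi)

/-- A module with a section vanishing exactly on the exceptional divisor. -/
structure CanSec (G : Y.Modules) where
  s : Γ(G, ⊤)
  gen : ∀ (S : Finset (Fin (n + 1))) (i : Fin (n + 1)), i ∈ S → ∃ g : Γ(G, C.W S),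
    Function.Bijective (fun x : Γ(Y, C.W S) => x • g) ∧
      mres G (le_top : C.W S ≤ ⊤) s = phi f (C.W S) (a i) • g

variable {C} {G : Y.Modules} (K : CanSec C G)

namespace CanSec

/-- `z` is the function of the section `y`. -/
def Rel {V : Y.Opens} (z : Γ(Y, V)) (y : Γ(G, V)) : Prop :=
  z • mres G (le_top : V ≤ ⊤) K.s = phi f V (a 0) • y

theorem rel_res {V V' : Y.Opens} (h : V' ≤ V) {z : Γ(Y, V)} {y : Γ(G, V)} (hr : K.Rel z y) :
    K.Rel (rho h z) (mres G h y) := by
  have h' := congrArg (mres G h) hr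
  rw [InvExt.mres_smul, InvExt.mres_smul, InvExt.mres_mres] at h'
  unfold Rel
  rw [← RingHom.congr_fun (phi_res f h) (a 0)]
  exact h'

theorem rel_zero {V : Y.Opens} : K.Rel (0 : Γ(Y, V)) 0 := by simp [Rel]

theorem rel_add {V : Y.Opens} {z z' : Γ(Y, V)} {y y' : Γ(G, V)} (h : K.Rel z y) (h' : K.Rel z' y') :
    K.Rel (z + z') (y + y') := by
  unfold Rel at *
  rw [add_smul, smul_add, h, h']

theorem rel_zsmul {V : Y.Opens} (k : ℤ) {z : Γ(Y, V)} {y : Γ(G, V)} (h : K.Rel z y) : K.Rel (k • z) (k • y) := by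
  unfold Rel at *
  rw [smul_assoc, h, smul_comm]

theorem rel_sum {V : Y.Opens} {ι : Type*} (s : Finset ι) {z : ι → Γ(Y, V)} {y : ι → Γ(G, V)}
    (h : ∀ j, K.Rel (z j) (y j)) : K.Rel (∑ j ∈ s, z j) (∑ j ∈ s, y j) := by
  classical
  induction s using Finset.induction_on with
  | empty => simpa using K.rel_zero
  | insert j s hj ih => rw [Finset.sum_insert hj, Finset.sum_insert hj]; exact K.rel_add (h j) ih

theorem unique_left {S : Finset (Fin (n + 1))} {i : Fin (n + 1)} (hi : i ∈ S) {z z' : Γ(Y, C.W S)}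
    {y : Γ(G, C.W S)} (h : K.Rel z y) (h' : K.Rel z' y) : z = z' := by
  obtain ⟨g, hg, hs⟩ := K.gen S i hi
  unfold Rel at h h'
  rw [← h', hs, smul_smul, smul_smul] at h
  exact (mul_cancel_right_mem_nonZeroDivisors ((C.good_W S).nzd i hi)).1 (hg.1 h)

theorem unique_right (h0 : a 0 ∈ nonZeroDivisors A) {S : Finset (Fin (n + 1))} {i : Fin (n + 1)} (hi : i ∈ S)
    {z : Γ(Y, C.W S)} {y y' : Γ(G, C.W S)} (h : K.Rel z y) (h' : K.Rel z y') : y = y' := by
  obtain ⟨g, hg, hs⟩ := K.gen S i hi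
  obtain ⟨c, rfl⟩ := hg.2 y
  obtain ⟨c', rfl⟩ := hg.2 y'
  unfold Rel at h h'
  rw [h', smul_smul, smul_smul] at h
  exact congrArg (· • g) ((mul_cancel_left_mem_nonZeroDivisors (nzd_phi C h0 hi)).1 (hg.1 h)).symm

/-- The monomial `T₀ / Tᵢ`. -/
theorem ratio0_mem {S : Finset (Fin (n + 1))} {i : Fin (n + 1)} (hi : i ∈ S) : ee 0 - ee i ∈ Om S 0 := by
  refine ⟨fun k hk => ?_, by rw [tot_sub, tot_ee, tot_ee]; omega⟩
  rcases eq_or_ne k i with hki | hki
  · exact hki ▸ hi
  · rcases eq_or_ne k (0 : Fin (n + 1)) with h | h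
    · subst h; simp [ee, hki] at hk
    · simp [ee, hki, h] at hk

theorem val_mul {S : Finset (Fin (n + 1))} {i : Fin (n + 1)} (hi : i ∈ S) :
    val a (phi f (C.W S)) (ee 0 - ee i) * phi f (C.W S) (a i) = phi f (C.W S) (a 0) := by
  have h := isVal_add (C.good_W S) (ratio0_mem hi).1 (ee_mem_Om S i).1 (isVal_val (C.good_W S) (ratio0_mem hi)) (isVal_ee i)
  rw [sub_add_cancel] at h
  exact isVal_unique (C.good_W S) (ee_mem_Om S 0).1 h (isVal_ee 0)

theorem ev_twist {S : Finset (Fin (n + 1))} {i : Fin (n + 1)} (hi : i ∈ S) (q : Q A S) :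
    ev a (phi f (C.W S)) (mon (ee 0) * (twist hi (-1 : ℤ) q : Lau A (n + 1))) =
      val a (phi f (C.W S)) (ee 0 - ee i) * evQ (C.good_W S) q := by
  show ev a _ (mon (ee 0) * (mon ((-1 : ℤ) • ee i) * (q : Lau A (n + 1)))) = _
  rw [← mul_assoc, mon_mul, show ee 0 + (-1 : ℤ) • ee i = ee 0 - ee i by simp [sub_eq_add_neg],
    ev_mul (C.good_W S) (mon_mem_sup (ratio0_mem hi)) q.2, evQ_apply]
  congr 1
  rw [mon, ev_single, map_one, one_mul]

/-- The shifted evaluation. -/
def evv (S : Finset (Fin (n + 1))) (w : W A S (-1 : ℤ)) : Γ(Y, C.W S) :=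
  ev a (phi f (C.W S)) (mon (ee 0) * (w : Lau A (n + 1)))

theorem mul_mem_zero {S : Finset (Fin (n + 1))} (w : W A S (-1 : ℤ)) :
    mon (ee 0) * (w : Lau A (n + 1)) ∈ sup A S 0 := by
  have h : mon (A := A) (ee (0 : Fin (n + 1))) ∈ sup A S 1 :=
    mon_mem_sup ⟨(ee_mem_Om S 0).1, (tot_ee (0 : Fin (n + 1))).ge⟩
  simpa using mul_mem_sup (le_refl S) (le_refl S) h w.2

theorem evv_mem_smul {S : Finset (Fin (n + 1))} (w : W A S (-1 : ℤ))
    (hw : w ∈ Ideal.span (Set.range (gg a)) • (⊤ : Submodule (MvPolynomial (Fin (n + 1)) A) (W A S (-1 : ℤ)))) :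
    evv (C := C) S w = 0 := by
  refine Submodule.smul_induction_on hw (fun p hp v _ => ?_) fun v v' hv hv' => ?_
  · unfold evv
    rw [Submodule.coe_smul, smul_lau, mul_left_comm, ev_mul (C.good_W S)
      (sup_mono (Finset.empty_subset S) le_rfl (toLau_mem_sup p)) (mul_mem_zero v), ev_toLau (C.good_W S)]
    have hle : Ideal.span (Set.range (gg a)) ≤
        RingHom.ker (MvPolynomial.eval₂Hom (phi f (C.W S)) fun k => phi f (C.W S) (a k)) := by
      rw [Ideal.span_le]
      rintro _ ⟨k, rfl⟩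
      show MvPolynomial.eval₂Hom (phi f (C.W S)) _ (gg a k) = 0
      simp [gg]
    rw [show MvPolynomial.eval₂ (phi f (C.W S)) (fun k => phi f (C.W S) (a k)) p = 0 from hle hp, zero_mul]
  · unfold evv at *
    rw [Submodule.coe_add, mul_add, map_add, hv, hv', add_zero]

theorem exists_rel_of_model {S : Finset (Fin (n + 1))} {i : Fin (n + 1)} (hi : i ∈ S) (w : W A S (-1 : ℤ)) :
    ∃ y : Γ(G, C.W S), K.Rel (evv (C := C) S w) y := by
  obtain ⟨q, rfl⟩ := (twist hi (-1 : ℤ)).surjective w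
  obtain ⟨g, hg, hs⟩ := K.gen S i hi
  refine ⟨evQ (C.good_W S) q • g, ?_⟩
  unfold Rel evv
  rw [ev_twist hi, hs, smul_smul, smul_smul]
  congr 1
  rw [mul_right_comm, val_mul hi]

theorem exists_model_of_sec (ha : LCI.IsKoszulRegularSeq A (List.ofFn a)) {S : Finset (Fin (n + 1))}
    {i : Fin (n + 1)} (hi : i ∈ S) (y : Γ(G, C.W S)) : ∃ w : W A S (-1 : ℤ), K.Rel (evv (C := C) S w) y := by
  obtain ⟨g, hg, hs⟩ := K.gen S i hi
  obtain ⟨c, rfl⟩ := hg.2 y
  obtain ⟨q, rfl⟩ := (C.surjective_ker_W ha hi).1 c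
  refine ⟨twist hi (-1 : ℤ) q, ?_⟩
  unfold Rel evv
  rw [ev_twist hi, hs, smul_smul, smul_smul]
  congr 1
  rw [mul_right_comm, val_mul hi]

theorem mem_smul_of_evv (ha : LCI.IsKoszulRegularSeq A (List.ofFn a)) (h0 : a 0 ∈ nonZeroDivisors A)
    {S : Finset (Fin (n + 1))} {i : Fin (n + 1)} (hi : i ∈ S) (w : W A S (-1 : ℤ)) (hw : evv (C := C) S w = 0) :
    w ∈ Ideal.span (Set.range (gg a)) • (⊤ : Submodule (MvPolynomial (Fin (n + 1)) A) (W A S (-1 : ℤ))) := by
  obtain ⟨q, rfl⟩ := (twist hi (-1 : ℤ)).surjective w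
  refine map_mem_smul_top (twist hi (-1 : ℤ)).toLinearMap ?_
  rw [Ideal.smul_top_eq_map]
  show q ∈ (Ideal.span (Set.range (gg a))).map (algebraMap (MvPolynomial (Fin (n + 1)) A) (Q A S))
  rw [← (C.surjective_ker_W ha hi).2, RingHom.mem_ker]
  unfold evv at hw
  rw [ev_twist hi] at hw
  have hv : val a (phi f (C.W S)) (ee 0 - ee i) * phi f (C.W S) (a i) ∈ nonZeroDivisors _ := by
    rw [val_mul hi]; exact nzd_phi C h0 hi
  exact (mul_left_mem_nonZeroDivisors_eq_zero_iff (mul_mem_nonZeroDivisors.1 hv).1).1 hw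

theorem evv_dd {p : ℕ} (x : DD A (n + 1) (-1 : ℤ) p) (t : Fin (p + 1) → Fin (n + 1)) :
    evv (C := C) (rng t) (dd A (n + 1) (-1 : ℤ) p x t) =
      ∑ j : Fin (p + 1), (-1 : ℤ) ^ (j : ℕ) • res C (rng_comp_subset t j.succAbove)
        (evv (C := C) (rng (t ∘ j.succAbove)) (x (t ∘ j.succAbove))) := by
  unfold evv
  rw [dd_apply, Finset.mul_sum, map_sum]
  refine Finset.sum_congr rfl fun j _ => ?_
  rw [mul_smul_comm, map_zsmul, ev_res C (rng_comp_subset t j.succAbove) (mul_mem_zero (x _))]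

/-- The lift of a cocycle of sections. -/
theorem exists_model_cocycle (hn : 1 ≤ n) (ha : LCI.IsKoszulRegularSeq A (List.ofFn a))
    (h0 : a 0 ∈ nonZeroDivisors A) (p : ℕ) (y : ∀ t : Fin (p + 1) → Fin (n + 1), Γ(G, C.W (rng t)))
    (hd : ∀ t : Fin (p + 2) → Fin (n + 1), ∑ j : Fin (p + 2), (-1 : ℤ) ^ (j : ℕ) •
      mres G (C.W_anti (rng_comp_subset t j.succAbove)) (y (t ∘ j.succAbove)) = 0) :
    ∃ w : DD A (n + 1) (-1 : ℤ) p, ∀ t, K.Rel (evv (C := C) (rng t) (dd A (n + 1) (-1 : ℤ) p w t)) (y t) := by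
  choose x hx using fun t => K.exists_model_of_sec ha (mem_rng t) (y t)
  obtain ⟨w, hw⟩ := exists_sub_mem a ha (m := (-1 : ℤ)) (by omega) p x (mem_smul_pi _ _ fun t =>
    mem_smul_of_evv ha h0 (mem_rng t) _ (by
      refine K.unique_left (mem_rng t) ?_ K.rel_zero
      rw [← hd t, evv_dd]
      exact K.rel_sum _ fun j => K.rel_zsmul _ (K.rel_res (C.W_anti (rng_comp_subset t j.succAbove)) (hx _))))
  refine ⟨w, fun t => ?_⟩
  have h := evv_mem_smul (C := C) _ (map_mem_smul_top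
    (LinearMap.proj (R := MvPolynomial (Fin (n + 1)) A) (φ := fun t : Fin (p + 1) → Fin (n + 1) => W A (rng t) (-1 : ℤ)) t) hw)
  unfold evv at h ⊢
  rw [LinearMap.proj_apply, Pi.sub_apply, Submodule.coe_sub, mul_sub, map_sub, sub_eq_zero] at h
  rw [← h]
  exact hx t

include K in
theorem exactAt_cx (hn : 1 ≤ n) (ha : LCI.IsKoszulRegularSeq A (List.ofFn a))
    (h0 : a 0 ∈ nonZeroDivisors A) (p : ℕ) : (BCCoh.cx f (UU C) G).ExactAt (p + 1) := by
  rw [HomologicalComplex.exactAt_iff' _ p (p + 1) (p + 2) (by simp) (by simp), ShortComplex.moduleCat_exact_iff]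
  suffices H : ∀ y : BCCoh.cxX f (UU C) G (p + 1), BCCoh.cxd f (UU C) G (p + 1) y = 0 →
      ∃ z, BCCoh.cxd f (UU C) G p z = y by
    intro y hy
    change (BCCoh.cx f (UU C) G).d (p + 1) (p + 1 + 1) y = 0 at hy
    rw [BCCoh.cx_d] at hy
    obtain ⟨z, hz⟩ := H y hy
    refine ⟨z, ?_⟩
    change (BCCoh.cx f (UU C) G).d p (p + 1) z = y
    rw [BCCoh.cx_d]
    exact hz
  intro y hy
  let y' : ∀ t : Fin (p + 2) → Fin (n + 1), Γ(G, C.W (rng t)) :=
    fun t => mres G (W_UU C (ULift.up ∘ t)).ge (y (ULift.up ∘ t))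
  obtain ⟨w, hw⟩ := K.exists_model_cocycle hn ha h0 (p + 1) y' fun t => by
    have h1 := (BCCoh.cxd_apply f (UU C) G (p + 1) y (ULift.up ∘ t)).symm.trans (congrFun hy (ULift.up ∘ t))
    have h2 : mres G (W_UU C (ULift.up ∘ t)).ge (∑ j : Fin (p + 3), (-1 : ℤ) ^ (j : ℕ) •
        mres G (leOfHom (Cech.proj (D := Opens Y.carrier) (UU C) (ULift.up ∘ t) j))
          (y fun l => (ULift.up ∘ t) (j.succAbove l))) = 0 :=
      (congrArg (mres G (W_UU C (ULift.up ∘ t)).ge) h1).trans (map_zero (G.presheaf.map _).hom)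
    refine Eq.trans ?_ h2
    refine Eq.trans ?_ (map_sum (G.presheaf.map (homOfLE (W_UU C (ULift.up ∘ t)).ge).op).hom _ _).symm
    refine Finset.sum_congr rfl fun j _ => ?_
    refine Eq.trans ?_ (map_zsmul (G.presheaf.map (homOfLE (W_UU C (ULift.up ∘ t)).ge).op).hom _ _).symm
    refine congrArg ((-1 : ℤ) ^ (j : ℕ) • ·) ?_
    show mres G _ (mres G _ _) = mres G _ (mres G _ _)
    rw [InvExt.mres_mres, InvExt.mres_mres]
    rfl
  choose z hz using fun t : Fin (p + 1) → Fin (n + 1) => K.exists_rel_of_model (mem_rng t) (w t)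
  refine ⟨fun b => mres G (W_UU C b).le (z fun k => (b k).down), funext fun b => ?_⟩
  have h : y' (fun k => (b k).down) = ∑ j : Fin (p + 2), (-1 : ℤ) ^ (j : ℕ) •
      mres G (C.W_anti (rng_comp_subset (fun k => (b k).down) j.succAbove))
        (z ((fun k => (b k).down) ∘ j.succAbove)) := by
    refine K.unique_right h0 (mem_rng _) (hw _) ?_
    rw [evv_dd]
    exact K.rel_sum _ fun j => K.rel_zsmul _ (K.rel_res _ (hz _))
  have h2 := congrArg (G.presheaf.map (homOfLE (W_UU C b).le).op).hom h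
  rw [map_sum] at h2
  refine (BCCoh.cxd_apply f (UU C) G p _ b).trans ?_
  refine Eq.trans ?_ (h2.symm.trans ?_)
  · refine Finset.sum_congr rfl fun j _ => ?_
    refine Eq.trans ?_ (map_zsmul (G.presheaf.map (homOfLE (W_UU C b).le).op).hom _ _).symm
    refine congrArg ((-1 : ℤ) ^ (j : ℕ) • ·) ?_
    show mres G _ (mres G _ _) = mres G _ (mres G _ _)
    rw [InvExt.mres_mres, InvExt.mres_mres]
    rfl
  · show mres G _ (mres G _ (y b)) = y b
    rw [InvExt.mres_mres, InvExt.mres_self]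

include K in
/-- **The higher cohomology vanishes.** -/
theorem subsingleton_HH (hn : 1 ≤ n) (ha : LCI.IsKoszulRegularSeq A (List.ofFn a))
    (h0 : a 0 ∈ nonZeroDivisors A) (hG : G.IsQuasicoherent) (p : ℕ) : Subsingleton (Coh.HH Y G (p + 1)) := by
  obtain ⟨e, -, -⟩ := BCCoh.exists_linearEquiv f (UU C)
    (top_unique fun x _ => Opens.mem_iSup.2 (by obtain ⟨i, hi⟩ := C.cover x; exact ⟨⟨i⟩, hi⟩))
    (fun q b => by rw [← Cech.obj_eq_iInf]; show IsAffineOpen (BCCoh.W (UU C) b)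
                   rw [W_UU]; exact C.affine_W (rng_nonempty _)) (p + 1)
  haveI : Subsingleton ((BCCoh.cx f (UU C) G).homology (p + 1)) :=
    ModuleCat.subsingleton_of_isZero ((HomologicalComplex.exactAt_iff_isZero_homology _ _).1 (K.exactAt_cx hn ha h0 p))
  exact (e G hG).toEquiv.subsingleton

include K in
/-- **The global sections are the multiples of the canonical section.** -/
theorem bijective_smul_sec (hn : 1 ≤ n) (ha : LCI.IsKoszulRegularSeq A (List.ofFn a))
    (h0 : a 0 ∈ nonZeroDivisors A) : Function.Bijective fun x : A => phi f ⊤ x • K.s := by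
  have hres : ∀ (t : Fin 1 → Fin (n + 1)) (x : A), mres G (le_top : C.W (rng t) ≤ ⊤) (phi f ⊤ x • K.s) =
      phi f (C.W (rng t)) x • mres G (le_top : C.W (rng t) ≤ ⊤) K.s := fun t x => by
    rw [InvExt.mres_smul]
    congr 1
    exact RingHom.congr_fun (phi_res f le_top) x
  have hrelx : ∀ (t : Fin 1 → Fin (n + 1)) (x : A), K.Rel (phi f (C.W (rng t)) (a 0 * x))
      (mres G (le_top : C.W (rng t) ≤ ⊤) (phi f ⊤ x • K.s)) := fun t x => by
    unfold Rel
    rw [hres, smul_smul, ← map_mul]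
  refine ⟨fun x x' hxx => ?_, fun y => ?_⟩
  · have h : ∀ i, phi f (C.V i) (a 0 * (x - x')) = 0 := fun i => by
      have e := K.unique_left (mem_rng fun _ : Fin 1 => i) (hrelx (fun _ => i) x) (by
        have := hrelx (fun _ => i) x'
        rwa [show phi f ⊤ x' • K.s = phi f ⊤ x • K.s from hxx.symm] at this)
      rw [show C.V i = C.W (rng fun _ : Fin 1 => i) from (C.W_singleton i).symm, mul_sub, map_sub, e, sub_self]
    have h1 := eq_zero_of_forall C ha _ h
    rw [mul_comm] at h1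
    exact sub_eq_zero.1 ((mem_nonZeroDivisors_iff_right.mp h0) _ h1)
  · obtain ⟨w, hw⟩ := K.exists_model_cocycle hn ha h0 0 (fun t => mres G (le_top : C.W (rng t) ≤ ⊤) y) fun t => by
      show (∑ j : Fin 2, (-1 : ℤ) ^ (j : ℕ) •
        mres G (C.W_anti (rng_comp_subset t j.succAbove)) (mres G (le_top : C.W (rng (t ∘ j.succAbove)) ≤ ⊤) y)) = 0
      simp only [Fin.sum_univ_two, Fin.val_zero, Fin.val_one, pow_zero, pow_one, one_smul, neg_smul,
        InvExt.mres_mres, add_neg_cancel]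
    have hw' : (w default : Lau A (n + 1)) ∈ sup A (∅ : Finset (Fin (n + 1))) (-1 : ℤ) :=
      sup_mono (by simp [rng]) le_rfl (w default).2
    have hex : ∃ x : A, ∀ t : Fin 1 → Fin (n + 1),
        ev a (phi f (C.W (rng t))) (mon (ee 0) * (w default : Lau A (n + 1))) = phi f (C.W (rng t)) (a 0 * x) := by
      refine induction_sup (motive := fun v => ∃ x : A, ∀ t : Fin 1 → Fin (n + 1),
        ev a (phi f (C.W (rng t))) (mon (ee 0) * v) = phi f (C.W (rng t)) (a 0 * x)) hw' ⟨0, by simp⟩ ?_ ?_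
      · rintro v v' ⟨x, hx⟩ ⟨x', hx'⟩
        exact ⟨x + x', fun t => by rw [mul_add, map_add, hx, hx', mul_add, map_add]⟩
      · intro e he r
        have hpos : ∀ k, 0 ≤ e k := fun k => not_lt.1 fun hk => absurd (he.1 k hk) (by simp)
        refine ⟨r * ∏ k, a k ^ (e k).toNat, fun t => ?_⟩
        rw [mon, AddMonoidAlgebra.single_mul_single, one_mul, ev_single, mul_left_comm, map_mul _ r]
        congr 1
        have h1 : IsVal a (phi f (C.W (rng t))) e (phi f (C.W (rng t)) (∏ k, a k ^ (e k).toNat)) := by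
          show _ * num a _ (-e) = num a _ e
          rw [map_prod, show num a (phi f (C.W (rng t))) (-e) = 1 from Finset.prod_eq_one fun k _ => by
            rw [show ((-e) k).toNat = 0 by rw [Pi.neg_apply]; have := hpos k; omega, pow_zero], mul_one, num]
          simp only [map_pow]
        rw [map_mul]
        have hneg : ∀ k, e k < 0 → k ∈ rng t := fun k hk => absurd hk (not_lt.2 (hpos k))
        refine val_eq (C.good_W (rng t)) (fun k hk => ?_)
          (isVal_add (C.good_W (rng t)) (ee_mem_Om (rng t) 0).1 hneg (isVal_ee 0) h1)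
        have := (ee_mem_Om (rng t) (0 : Fin (n + 1))).1 k
        rw [Pi.add_apply] at hk
        exact this (by have := hpos k; omega)
    obtain ⟨x, hx⟩ := hex
    refine ⟨x, TopCat.Sheaf.eq_of_locally_eq' ⟨G.presheaf, G.isSheaf⟩
      (fun i : Fin (n + 1) => C.W (rng fun _ : Fin 1 => i)) ⊤ (fun i => homOfLE le_top) ?_ _ _ fun i => ?_⟩
    · intro z _
      obtain ⟨i, hi⟩ := C.cover z
      refine Opens.mem_iSup.2 ⟨i, ?_⟩
      rw [show rng (fun _ : Fin 1 => i) = {i} from rfl, C.W_singleton]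
      exact hi
    · show mres G le_top (phi f ⊤ x • K.s) = mres G le_top y
      refine K.unique_right h0 (mem_rng _) (hrelx _ x) ?_
      have h := hw fun _ => i
      unfold evv at h
      rwa [dd_apply, Fin.sum_univ_one, Fin.val_zero, pow_zero, one_smul,
        show ((fun _ : Fin 1 => i) ∘ Fin.succAbove 0) = default from Subsingleton.elim _ _, hx] at h

end CanSec

end

end GrothLib.BlowCoh8
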