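import Groth.Agent.Lib.BlowCoh8.Twist
import Groth.Agent.Lib.BlowCoh8.Exceptional
import Groth.Agent.Lib.EllGroup15.ZeroIdeal
import Groth.Agent.Lib.Seesaw26.Criterion
import Groth.Agent.Lib.InvExt.FiniteFibre
import Groth.Agent.Lib.GrTilde.Mul

/-!
# Direct images of the inverse of the exceptional ideal
-/

set_option autoImplicit false
set_option backward.isDefEq.respectTransparency false
set_option linter.style.haveILetI false

universe u

open CategoryTheory CategoryTheory.Limits AlgebraicGeometry TopologicalSpace Opposite Abelian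
open GrothLib.InvExt (mres fres IsGen)

namespace GrothLib.BlowCoh8

open GrothLib.BlowUp17 GrothLib.SmCurveFam

noncomputable section

/-! ## Centres of codimension at least two -/

variable {X : Scheme.{u}}

/-- An ideal sheaf is locally generated by a Koszul regular sequence with at least two entries whose
first entry is a nonzerodivisor. -/
def IsLocSeq₂ (J : X.IdealSheafData) : Prop :=
  ∀ x : X, ∃ U : X.affineOpens, x ∈ U.1 ∧ ∃ (n : ℕ) (a : Fin (n + 1) → Γ(X, U.1)),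
    1 ≤ n ∧ a 0 ∈ nonZeroDivisors Γ(X, U.1) ∧
      LCI.IsKoszulRegularSeq Γ(X, U.1) (List.ofFn a) ∧ J.ideal U = ctr a

variable {J : X.IdealSheafData}

theorem IsLocSeq₂.toLocSeq (h : IsLocSeq₂ J) : IsLocSeq J := fun x =>
  let ⟨U, hxU, n, a, _, _, ha, hJ⟩ := h x
  ⟨U, hxU, n, a, ha, hJ⟩

theorem IsLocSeq₂.basis (h : IsLocSeq₂ J) (x : X) {W : X.Opens} (hx : x ∈ W) :
    ∃ U : X.affineOpens, x ∈ U.1 ∧ U.1 ≤ W ∧ ∃ (n : ℕ) (a : Fin (n + 1) → Γ(X, U.1)),
      1 ≤ n ∧ a 0 ∈ nonZeroDivisors Γ(X, U.1) ∧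
        LCI.IsKoszulRegularSeq Γ(X, U.1) (List.ofFn a) ∧ J.ideal U = ctr a := by
  obtain ⟨U, hxU, n, a, hn, h0, ha, hJ⟩ := h x
  obtain ⟨g, hgW, hxg⟩ := U.2.exists_basicOpen_le ⟨x, hx⟩ hxU
  let ρ := (X.presheaf.map (homOfLE (X.basicOpen_le g)).op).hom
  have hρ : ρ.Flat := GrothLib.BlowUp.flat_res
    (U := U) (V := ⟨X.basicOpen g, U.2.basicOpen g⟩) (X.basicOpen_le g)
  refine ⟨⟨X.basicOpen g, U.2.basicOpen g⟩, hxg, hgW, n, ρ ∘ a, hn,
    GrothLib.BlowUp.mem_nonZeroDivisors_of_flat ρ hρ h0, ?_, ?_⟩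
  · have := GrothLib.KoszulColon.isKoszulRegularSeq_map ρ hρ _ ha
    rwa [List.map_ofFn] at this
  · rw [← J.map_ideal (U := ⟨X.basicOpen g, U.2.basicOpen g⟩) (V := U) (X.basicOpen_le g), hJ, Ideal.map_span,
      ← Set.range_comp]
    rfl

theorem isLocSeq₂_of_codim {Z : Scheme.{u}} [IsLocallyNoetherian X] (i : Z ⟶ X) [IsClosedImmersion i] {d : ℕ}
    (hd : 2 ≤ d) (hi : RegImm.IsRegularImmersionOfCodim .regular d i) : IsLocSeq₂ i.ker := by
  intro x
  by_cases hx : x ∈ Set.range i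
  · obtain ⟨z, rfl⟩ := hx
    obtain ⟨U, hU, -, rs, hlen, hrs, hker⟩ := hi.2 z
    obtain ⟨n, hn⟩ : ∃ n, rs.length = n + 1 := ⟨rs.length - 1, by omega⟩
    have hl : List.ofFn (fun k : Fin (n + 1) => rs[(k : ℕ)]'(by omega)) = rs := by
      refine List.ext_getElem (by simp [hn]) fun k h1 h2 => ?_
      rw [List.getElem_ofFn]
    refine ⟨U, hU, n, fun k => rs[(k : ℕ)]'(by omega), by omega, ?_, ?_, ?_⟩
    · match rs, hn, hrs with
      | [], hn, _ => simp at hn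
      | r :: rs, _, hrs =>
        have h := ((RingTheory.Sequence.isWeaklyRegular_cons_iff _ _ _).1 hrs.toIsWeaklyRegular).1
        rw [mem_nonZeroDivisors_iff_right]
        intro z hz
        refine h ?_
        show r • z = r • (0 : Γ(X, U.1))
        rw [smul_zero, smul_eq_mul, mul_comm]
        exact hz
    · rw [hl]
      exact GrothLib.KoszulFwd.isKoszulRegularSeq_of_isWeaklyRegular rs hrs.toIsWeaklyRegular
    · rw [Scheme.Hom.ker_apply, hker]
      conv_lhs => rw [← hl]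
      rw [Ideal.ofList, ctr]
      congr 1
      ext y
      rw [Set.mem_setOf_eq, List.mem_ofFn]
      exact Iff.rfl
  · have hop : IsOpen (Set.range i)ᶜ := (i.isClosedEmbedding.isClosed_range).isOpen_compl
    obtain ⟨U, hxU, hU⟩ := GrothLib.BlowUp.exists_affine_mem_le (W := ⟨_, hop⟩) (show x ∈ (Set.range i)ᶜ from hx)
    refine ⟨U, hxU, 1, fun _ => 1, le_rfl, one_mem _, ?_, ?_⟩
    · refine GrothLib.KoszulFwd.isKoszulRegularSeq_of_isWeaklyRegular _ ?_
      simp only [List.ofFn_succ, List.ofFn_zero, RingTheory.Sequence.isWeaklyRegular_cons_iff,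
        RingTheory.Sequence.IsWeaklyRegular.nil, and_true]
      exact ⟨IsSMulRegular.one _, IsSMulRegular.one _⟩
    · haveI : Subsingleton Γ(Z, i ⁻¹ᵁ U.1) := by
        have : i ⁻¹ᵁ U.1 = ⊥ := eq_bot_iff.2 fun z hz => (hU hz ⟨z, rfl⟩).elim
        rw [this]
        infer_instance
      rw [Scheme.Hom.ker_apply, (Ideal.eq_top_iff_one (RingHom.ker (i.app U.1).hom)).2 (Subsingleton.elim _ _)]
      exact ((Ideal.eq_top_iff_one _).2 (Ideal.subset_span (Set.mem_range.2 ⟨0, rfl⟩))).symm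

/-! ## A generator dividing the canonical section -/

/-- A nonzerodivisor on an affine open is one on every smaller open. -/
theorem eq_zero_of_mul_res (V : X.affineOpens) {b : Γ(X, V.1)} (hb : b ∈ nonZeroDivisors Γ(X, V.1))
    {W : X.Opens} (h : W ≤ V.1) {z : Γ(X, W)} (hz : z * fres X h b = 0) : z = 0 := by
  choose D hxD hD using fun x : W => GrothLib.BlowUp.exists_affine_mem_le x.2
  refine X.sheaf.eq_of_locally_eq' (fun x : W => (D x).1) W (fun x => homOfLE (hD x))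
    (fun x hx => Opens.mem_iSup.2 ⟨⟨x, hx⟩, hxD ⟨x, hx⟩⟩) z 0 fun x => ?_
  refine Eq.trans ?_ (map_zero (X.presheaf.map (homOfLE (hD x)).op).hom).symm
  refine (mem_nonZeroDivisors_iff_right.mp (GrothLib.BlowUp.mem_nonZeroDivisors_of_flat _
    (GrothLib.BlowUp.flat_res (U := V) (V := D x) ((hD x).trans h)) hb)) _ ?_
  show fres X (hD x) z * fres X ((hD x).trans h) b = 0
  rw [← InvExt.fres_fres h (hD x) b]
  exact (map_mul (X.presheaf.map (homOfLE (hD x)).op).hom _ _).symm.trans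
    ((congrArg _ hz).trans (map_zero (X.presheaf.map (homOfLE (hD x)).op).hom))

/-- Where the ideal is principal the canonical section is a generator times the equation. -/
theorem exists_gen_of_span {E : X.IdealSheafData} {L : X.Modules} {s : Γ(L, ⊤)} (hs : IsCanSec E L s)
    (V : X.affineOpens) {b : Γ(X, V.1)} (hb : b ∈ nonZeroDivisors Γ(X, V.1)) (hE : E.ideal V = Ideal.span {b}) :
    ∃ g : Γ(L, V.1), IsGen L V.1 g ∧ mres L (le_top : V.1 ≤ ⊤) s = b • g := by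
  have key : ∀ p : V.1, ∃ (D : X.Opens) (h : D ≤ V.1) (e : Γ(L, D)), p.1 ∈ D ∧ IsGen L D e ∧
      mres L (le_top : D ≤ ⊤) s = fres X h b • e := by
    intro p
    obtain ⟨T, e, r, hpT, he, hr, hI⟩ := hs p.1
    obtain ⟨D, hpD, hD⟩ := GrothLib.BlowUp.exists_affine_mem_le (W := T.1 ⊓ V.1) (x := p.1) ⟨hpT, p.2⟩
    have hDT : D.1 ≤ T.1 := hD.trans inf_le_left
    have hDV : D.1 ≤ V.1 := hD.trans inf_le_right
    have h1 : E.ideal D = Ideal.span {fres X hDT r} := by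
      rw [← E.map_ideal (U := D) (V := T) hDT, hI, Ideal.map_span, Set.image_singleton]
      rfl
    have h2 : E.ideal D = Ideal.span {fres X hDV b} := by
      rw [← E.map_ideal (U := D) (V := V) hDV, hE, Ideal.map_span, Set.image_singleton]
      rfl
    obtain ⟨w, hw⟩ := Ideal.mem_span_singleton'.1 ((h1.symm.trans h2).le (Ideal.mem_span_singleton_self _))
    obtain ⟨z, hz⟩ := Ideal.mem_span_singleton'.1 ((h2.symm.trans h1).le (Ideal.mem_span_singleton_self _))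
    have hzw : z * w = 1 := by
      refine sub_eq_zero.1 (eq_zero_of_mul_res V hb hDV ?_)
      linear_combination hz + z * hw
    refine ⟨D.1, hDV, w • mres L hDT e, hpD, (he.restrict hDT).smul_unit (IsUnit.of_mul_eq_one_right z hzw), ?_⟩
    rw [← InvExt.mres_mres L (le_top : T.1 ≤ ⊤) hDT s, hr, InvExt.mres_smul, smul_smul, ← hw, mul_comm]
  choose D hD e hpD he hse using key
  have hcov : V.1 ≤ ⨆ p, D p := fun x hx => Opens.mem_iSup.2 ⟨⟨x, hx⟩, hpD ⟨x, hx⟩⟩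
  have hcomp : ∀ p q, mres L (inf_le_left : D p ⊓ D q ≤ D p) (e p) = mres L (inf_le_right : D p ⊓ D q ≤ D q) (e q) := by
    intro p q
    obtain ⟨c, hc⟩ := (he q).exists_smul_eq (inf_le_right : D p ⊓ D q ≤ D q) (mres L inf_le_left (e p))
    have h1 := congrArg (mres L (inf_le_left : D p ⊓ D q ≤ D p)) (hse p)
    have h2 := congrArg (mres L (inf_le_right : D p ⊓ D q ≤ D q)) (hse q)
    rw [InvExt.mres_smul, InvExt.mres_mres, InvExt.fres_fres, hc, smul_smul] at h1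
    rw [InvExt.mres_smul, InvExt.mres_mres, InvExt.fres_fres] at h2
    have h3 := (he q).smul_left_injective (inf_le_right : D p ⊓ D q ≤ D q) (h1.symm.trans h2)
    have hc1 : c - 1 = 0 := by
      refine eq_zero_of_mul_res V hb ((inf_le_left : D p ⊓ D q ≤ D p).trans (hD p)) ?_
      linear_combination h3
    rw [hc, sub_eq_zero.1 hc1, one_smul]
  obtain ⟨g, hg, -⟩ := TopCat.Sheaf.existsUnique_gluing' ⟨L.presheaf, L.isSheaf⟩ D V.1
    (fun p => homOfLE (hD p)) hcov e hcomp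
  refine ⟨g, InvExt.isGen_of_cover D hD hcov fun p => by
    rw [show mres L (hD p) g = e p from hg p]; exact he p, ?_⟩
  refine TopCat.Sheaf.eq_of_locally_eq' ⟨L.presheaf, L.isSheaf⟩ D V.1 (fun p => homOfLE (hD p)) hcov _ _ fun p => ?_
  show mres L (hD p) (mres L le_top s) = mres L (hD p) (b • g)
  rw [InvExt.mres_mres, InvExt.mres_smul, show mres L (hD p) g = e p from hg p]
  exact hse p

/-! ## The canonical section above an affine open -/

variable {X' : Scheme.{u}} {f : X' ⟶ X} {U : X.affineOpens} {n : ℕ} {a : Fin (n + 1) → Γ(X, U.1)}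

/-- Above a piece of the charts the exceptional ideal is generated by the chosen entry. -/
theorem pullback_data (hJU : J.ideal U = ctr a) (C : Charts (BCCoh.affBase f U.2) a) (S : Finset (Fin (n + 1)))
    (i : Fin (n + 1)) (hi : i ∈ S) : ∃ (V : X'.affineOpens) (hV : V.1 = (f ⁻¹ᵁ U.1).ι ''ᵁ C.W S),
      ∀ hle : V.1 ≤ f ⁻¹ᵁ U.1, f.appLE U.1 V.1 hle (a i) ∈ nonZeroDivisors Γ(X', V.1) ∧
        (J.comap f).ideal V = Ideal.span {f.appLE U.1 V.1 hle (a i)} := by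
  let j := (f ⁻¹ᵁ U.1).ι
  let V' : X'.affineOpens := ⟨j ''ᵁ C.W S, (C.affine_W ⟨i, hi⟩).image_of_isOpenImmersion j⟩
  refine ⟨V', rfl, fun hle => ?_⟩
  have hσ : Function.Bijective (j.appIso (C.W S)).hom :=
    ConcreteCategory.bijective_of_isIso (j.appIso (C.W S)).hom
  have hb : ∀ k, phi (BCCoh.affBase f U.2) (C.W S) (a k) =
      (j.appIso (C.W S)).hom (f.appLE U.1 V'.1 hle (a k)) := fun k => appLE_affBase U (C.W S) hle (a k)
  constructor
  · rw [mem_nonZeroDivisors_iff_right]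
    intro z hz
    refine hσ.1 ?_
    rw [map_zero]
    refine (mem_nonZeroDivisors_iff_right.mp ((C.good_W S).nzd i hi)) _ ?_
    rw [hb, ← map_mul, hz, map_zero]
  · rw [GrothLib.BlowUp.ideal_comap_eq_map J f U V' hle, hJU, Ideal.map_span]
    refine le_antisymm (Ideal.span_le.2 ?_) (Ideal.span_mono ?_)
    · rintro _ ⟨_, ⟨k, rfl⟩, rfl⟩
      obtain ⟨r, hr⟩ := (C.good_W S).div i hi k
      obtain ⟨r', rfl⟩ := hσ.2 r
      rw [hb, hb, ← map_mul] at hr
      exact Ideal.mem_span_singleton'.2 ⟨r', (hσ.1 hr).symm⟩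
    · rintro _ rfl
      exact ⟨a i, ⟨i, rfl⟩, rfl⟩

variable {L : X'.Modules} {s : Γ(L, ⊤)}

/-- The canonical section above the affine open. -/
theorem exists_canSec (hJU : J.ideal U = ctr a) (C : Charts (BCCoh.affBase f U.2) a)
    (hs : IsCanSec (J.comap f) L s) :
    ∃ K : CanSec C (L.restrict (f ⁻¹ᵁ U.1).ι),
      (show Γ(L, (f ⁻¹ᵁ U.1).ι ''ᵁ ⊤) from K.s) = mres L (le_top : (f ⁻¹ᵁ U.1).ι ''ᵁ ⊤ ≤ ⊤) s := by
  let j := (f ⁻¹ᵁ U.1).ι
  refine ⟨⟨mres L (le_top : j ''ᵁ ⊤ ≤ ⊤) s, fun S i hi => ?_⟩, rfl⟩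
  obtain ⟨⟨V, hVa⟩, hV, hdata⟩ := pullback_data hJU C S i hi
  change V = j ''ᵁ C.W S at hV
  subst hV
  have hle : j ''ᵁ C.W S ≤ f ⁻¹ᵁ U.1 := image_le U (C.W S)
  obtain ⟨hb, hspan⟩ := hdata hle
  obtain ⟨g, hg, hsg⟩ := exists_gen_of_span hs ⟨_, hVa⟩ hb hspan
  refine ⟨g, ?_, ?_⟩
  · have h := hg (j ''ᵁ C.W S) le_rfl
    rw [InvExt.mres_self] at h
    exact h.comp (ConcreteCategory.bijective_of_isIso (j.appIso (C.W S)).inv)
  · rw [appLE_affBase U (C.W S) hle (a i)]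
    show mres L _ (mres L _ s) = (j.appIso (C.W S)).inv ((j.appIso (C.W S)).hom _) • g
    rw [InvExt.mres_mres, Iso.hom_inv_id_apply]
    exact hsg

theorem subsingleton_ext_inv (hf : _root_.BlowUp.IsBlowUp f J) (hJU : J.ideal U = ctr a) (hn : 1 ≤ n)
    (h0 : a 0 ∈ nonZeroDivisors Γ(X, U.1)) (ha : LCI.IsKoszulRegularSeq Γ(X, U.1) (List.ofFn a))
    [L.IsQuasicoherent] (hs : IsCanSec (J.comap f) L s) (p : ℕ) :
    Subsingleton (Ext.{u} (Cohom.freeFun.obj (f ⁻¹ᵁ U.1)) (Coh.toAb L) (p + 1)) := by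
  obtain ⟨C⟩ := exists_charts (BCCoh.affBase f U.2) a (isBlowUp_affBase U a hf hJU)
  obtain ⟨K, -⟩ := exists_canSec hJU C hs
  haveI := K.subsingleton_HH hn ha h0 inferInstance p
  haveI : Subsingleton (Coh.HHon X' L (f ⁻¹ᵁ U.1) (p + 1)) := this
  obtain ⟨e⟩ := Cohom.nonempty_HHon_equiv L (f ⁻¹ᵁ U.1) (p + 1)
  exact e.symm.toEquiv.subsingleton

theorem bijective_smul_app (hf : _root_.BlowUp.IsBlowUp f J) (hJU : J.ideal U = ctr a) (hn : 1 ≤ n)
    (h0 : a 0 ∈ nonZeroDivisors Γ(X, U.1)) (ha : LCI.IsKoszulRegularSeq Γ(X, U.1) (List.ofFn a))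
    (hs : IsCanSec (J.comap f) L s) :
    Function.Bijective fun r : Γ(X, U.1) => f.app U.1 r • mres L (le_top : f ⁻¹ᵁ U.1 ≤ ⊤) s := by
  let j := (f ⁻¹ᵁ U.1).ι
  obtain ⟨C⟩ := exists_charts (BCCoh.affBase f U.2) a (isBlowUp_affBase U a hf hJU)
  obtain ⟨K, hK⟩ := exists_canSec hJU C hs
  have h1 := K.bijective_smul_sec hn ha h0
  have h2 : Function.Bijective fun r : Γ(X, U.1) =>
      f.appLE U.1 (j ''ᵁ ⊤) (image_le U ⊤) r • mres L (le_top : j ''ᵁ ⊤ ≤ ⊤) s := by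
    have hg : ∀ r : Γ(X, U.1), f.appLE U.1 (j ''ᵁ ⊤) (image_le U ⊤) r • mres L (le_top : j ''ᵁ ⊤ ≤ ⊤) s =
        (show Γ(L, j ''ᵁ ⊤) from phi (BCCoh.affBase f U.2) ⊤ r • K.s) := fun r => by
      rw [appLE_affBase U ⊤ (image_le U ⊤) r]
      show _ = (j.appIso ⊤).inv ((j.appIso ⊤).hom _) • (show Γ(L, j ''ᵁ ⊤) from K.s)
      rw [hK, Iso.hom_inv_id_apply]
    refine ⟨fun r r' h => h1.1 ((hg r).symm.trans (h.trans (hg r'))), fun y => ?_⟩
    obtain ⟨r, hr⟩ := h1.2 y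
    exact ⟨r, (hg r).trans hr⟩
  have key : ∀ (W : X'.Opens) (hle : W ≤ f ⁻¹ᵁ U.1), W = f ⁻¹ᵁ U.1 →
      Function.Bijective (fun r : Γ(X, U.1) => f.appLE U.1 W hle r • mres L (le_top : W ≤ ⊤) s) →
      Function.Bijective fun r : Γ(X, U.1) => f.app U.1 r • mres L (le_top : f ⁻¹ᵁ U.1 ≤ ⊤) s := by
    rintro _ hle rfl h
    rwa [Scheme.Hom.app_eq_appLE]
  exact key _ _ (f ⁻¹ᵁ U.1).ι_image_top h2

/-! ## The two theorems -/

theorem isInvertible_inverse (hf : _root_.BlowUp.IsBlowUp f J)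
    (hL : ClSub.IsInverseOf L (ClSub.idealMod (J.comap f))) : PicF.IsInvertible L := by
  obtain ⟨e⟩ := hL
  exact GrothLib.Seesaw26.isInvertible_of_tensor_iso (GrothLib.GrTilde.tensorModComm _ _ ≪≫ e)
    (GrothLib.IdealModSec.isInvertible_of_isEffCartier hf.1)

theorem isZero_RpushAb_inverse (hJ : IsLocSeq₂ J) (hf : _root_.BlowUp.IsBlowUp f J)
    (hL : ClSub.IsInverseOf L (ClSub.idealMod (J.comap f))) (q : ℕ) (hq : 1 ≤ q) :
    IsZero ((Coh.RpushAb f q).obj (Coh.toAb L)) := by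
  haveI := isProper_of_isLocSeq hJ.toLocSeq hf
  have hinv := isInvertible_inverse hf hL
  haveI := GrothLib.InvExt.isQuasicoherent_of_isInvertible hinv
  obtain ⟨s, hs⟩ := GrothLib.SmCurveFam.exists_isCanSec hf.1 hinv hL
  obtain ⟨p, rfl⟩ : ∃ p, q = p + 1 := ⟨q - 1, by omega⟩
  choose U hxU n a hn h0 ha hJU using hJ
  exact GrothLib.RelVanish.isZero_RpushAb_of_cover f L (p + 1) (fun x => (U x).1) (fun x => (U x).2)
    (fun x => ⟨x, hxU x⟩) fun x => subsingleton_ext_inv hf (hJU x) (hn x) (h0 x) (ha x) hs p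

/-- **The restriction of `O(D)` to `D` has no higher direct images.** -/
theorem isZero_inverse_restrict (hJ : IsLocSeq₂ J) (hf : _root_.BlowUp.IsBlowUp f J)
    (hL : ClSub.IsInverseOf L (ClSub.idealMod (J.comap f))) (p : ℕ) (hp : 1 ≤ p) :
    IsZero ((Coh.RpushAb f p).obj (Coh.toAb
      ((Scheme.Modules.pushforward (J.comap f).subschemeι).obj
        ((Scheme.Modules.pullback (J.comap f).subschemeι).obj L)))) := by
  obtain ⟨k, rfl⟩ : ∃ k, p = k + 1 := ⟨p - 1, by omega⟩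
  refine isZero_restrict _ (GrothLib.Euler.isFinLocFree_of_isInvertible (isInvertible_inverse hf hL)) k
    (isZero_RpushAb_inverse hJ hf hL _ (by omega)) ?_
  obtain ⟨e⟩ := hL
  haveI := hasInjectiveResolutions X'
  have h := (isZero_RpushAb_iff (f := f) _ (k + 2)).1 (isZero_RpushAb_structure hJ.toLocSeq hf (k + 2) (by omega))
  rw [isZero_RpushAb_iff]
  exact h.of_iso ((Coh.Rpush f (k + 2)).mapIso e)

/-- **`σ_* O(D) = O`.** -/
theorem nonempty_pushforward_inverse_iso (hJ : IsLocSeq₂ J) (hf : _root_.BlowUp.IsBlowUp f J)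
    (hL : ClSub.IsInverseOf L (ClSub.idealMod (J.comap f))) :
    Nonempty ((Scheme.Modules.pushforward f).obj L ≅ Coh.structureModule X) := by
  obtain ⟨s, hs⟩ := GrothLib.SmCurveFam.exists_isCanSec hf.1 (isInvertible_inverse hf hL) hL
  let φ : Coh.structureModule X ⟶ (Scheme.Modules.pushforward f).obj L :=
    ClSub.unitToPush f ≫ (Scheme.Modules.pushforward f).map (OX.ofTop (N := L) s)
  haveI : IsIso φ := GrothLib.ZClosure.isIso_of_basis _ fun x W hx => by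
    obtain ⟨U, hxU, hUW, n, a, hn, h0, ha, hJU⟩ := hJ.basis x hx
    refine ⟨U.1, hxU, hUW, ?_⟩
    have hfun : ∀ r : Γ(X, U.1), φ.app U.1 r = (f.app U.1 r) • mres L (le_top : f ⁻¹ᵁ U.1 ≤ ⊤) s := fun r =>
      (Mero.Zero.app_eq_smul_secVal L (OX.ofTop (N := L) s) (f ⁻¹ᵁ U.1) (f.app U.1 r)).trans
        (congrArg (f.app U.1 r • ·) (EllGroup15.secVal_ofTop s _))
    have h := bijective_smul_app hf hJU hn h0 ha hs
    refine ⟨fun r r' hrr => h.1 ((hfun r).symm.trans (hrr.trans (hfun r'))), fun y => ?_⟩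
    obtain ⟨r, hr⟩ := h.2 y
    exact ⟨r, (hfun r).trans hr⟩
  exact ⟨(asIso φ).symm⟩

end

end GrothLib.BlowCoh8
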