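import Groth.Agent.Lib.BlowCoh8.Cech
import Groth.Agent.Lib.BCCoh.CechA

/-!
# Cohomology of the blow-up of an affine scheme in a Koszul regular sequence
-/

set_option autoImplicit false
set_option backward.isDefEq.respectTransparency false
set_option linter.style.haveILetI false

universe u

open CategoryTheory CategoryTheory.Limits AlgebraicGeometry TopologicalSpace Opposite

namespace GrothLib.BlowCoh8

open GrothLib.BlowUp17

noncomputable section

variable {A : Type u} [CommRing A] {Y : Scheme.{u}} {f : Y ⟶ Spec (CommRingCat.of A)}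
  {n : ℕ} {a : Fin (n + 1) → A} (C : Charts f a) {G : Y.Modules} (ι : G ⟶ Coh.structureModule Y) (m : ℕ)

/-- The sections of the structure sheaf under a map of modules. -/
def toO (V : Y.Opens) : BCCoh.secA f G V →+ Γ(Y, V) :=
  (AddMonoidHom.mk' (fun x => (show Γ(Y, V) from BCCoh.appA f ι V x)) fun x y => map_add (BCCoh.appA f ι V) x y)

/-- The restriction of functions. -/
abbrev rho {V V' : Y.Opens} (h : V' ≤ V) : Γ(Y, V) →+* Γ(Y, V') := (Y.presheaf.map (homOfLE h).op).hom

theorem rho_rho {V V' V'' : Y.Opens} (h : V' ≤ V) (h' : V'' ≤ V') (x : Γ(Y, V)) :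
    rho h' (rho h x) = rho (h'.trans h) x := by
  show ((Y.presheaf.map (homOfLE h).op) ≫ Y.presheaf.map (homOfLE h').op).hom x = _
  rw [← Functor.map_comp]
  rfl

theorem rho_self {V : Y.Opens} (h : V ≤ V) (x : Γ(Y, V)) : rho h x = x := by
  show (Y.presheaf.map (𝟙 (op V))).hom x = x
  rw [CategoryTheory.Functor.map_id]
  rfl

theorem toO_res {V V' : Y.Opens} (h : V' ≤ V) (x : BCCoh.secA f G V) :
    toO ι V' (BCCoh.resA f G h x) = rho h (toO (f := f) ι V x) :=
  PresheafOfModules.naturality_apply ι.val (homOfLE h).op x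

/-- The sheaf is the `m`-th power of the exceptional ideal on the pieces. -/
structure IsPower : Prop where
  inj : ∀ V : Y.Opens, Function.Injective (toO (f := f) ι V)
  range : ∀ (S : Finset (Fin (n + 1))) (i : Fin (n + 1)), i ∈ S → ∀ (V : Y.Opens), V = C.W S → ∀ y : Γ(Y, V),
    ((∃ x, toO (f := f) ι V x = y) ↔ y ∈ Ideal.span {phi f V (a i) ^ m})

/-- The cover. -/
abbrev UU : ULift.{u} (Fin (n + 1)) → Y.Opens := fun i => C.V i.down

theorem W_UU {p : ℕ} (b : Fin (p + 1) → ULift.{u} (Fin (n + 1))) :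
    BCCoh.W (UU C) b = C.W (rng (fun k => (b k).down)) := by
  rw [BCCoh.W, Cech.obj_eq_iInf]
  refine le_antisymm (Finset.le_inf fun i hi => ?_) (le_iInf fun k => Finset.inf_le (Finset.mem_image_of_mem _ (Finset.mem_univ k)))
  obtain ⟨k, -, rfl⟩ := Finset.mem_image.1 hi
  exact iInf_le _ k

theorem isCoch_of (hP : IsPower C ι m) {p : ℕ} (y : BCCoh.cxX f (UU C) G p) :
    IsCoch C m p fun t => rho (W_UU C (ULift.up ∘ t)).ge (toO ι _ (y (ULift.up ∘ t))) := by
  intro t
  refine (hP.range (rng t) (t 0) (mem_rng t) _ rfl _).1 ?_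
  refine ⟨BCCoh.resA f G (W_UU C (ULift.up ∘ t)).ge (y (ULift.up ∘ t)), ?_⟩
  exact toO_res ι _ _

theorem toO_cxd {p : ℕ} (y : BCCoh.cxX f (UU C) G p) (b : Fin (p + 2) → ULift.{u} (Fin (n + 1))) :
    toO ι _ (BCCoh.cxd f (UU C) G p y b) = ∑ k : Fin (p + 2), (-1 : ℤ) ^ (k : ℕ) •
      rho (leOfHom (Cech.proj (D := Opens Y.carrier) (UU C) b k)) (toO (f := f) ι _ (y fun l => b (k.succAbove l))) := by
  rw [BCCoh.cxd_apply, map_sum]
  exact Finset.sum_congr rfl fun k _ => by rw [map_zsmul, toO_res]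

theorem exactAt_cx (hP : IsPower C ι m) (ha : LCI.IsKoszulRegularSeq A (List.ofFn a)) (p : ℕ) :
    (BCCoh.cx f (UU C) G).ExactAt (p + 1) := by
  rw [HomologicalComplex.exactAt_iff' _ p (p + 1) (p + 2) (by simp) (by simp), ShortComplex.moduleCat_exact_iff]
  suffices H : ∀ y : BCCoh.cxX f (UU C) G (p + 1), BCCoh.cxd f (UU C) G (p + 1) y = 0 →
      ∃ z, BCCoh.cxd f (UU C) G p z = y by
    intro y hy
    change (BCCoh.cx f (UU C) G).d (p + 1) (p + 1 + 1) y = 0 at hy
    rw [BCCoh.cx_d] at hy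
    obtain ⟨z, hz⟩ := H y hy
    refine ⟨z, ?_⟩
    change (BCCoh.cx f (UU C) G).d p (p + 1) z = y
    rw [BCCoh.cx_d]
    exact hz
  intro y hy
  let y' : ∀ t : Fin (p + 2) → Fin (n + 1), Γ(Y, C.W (rng t)) :=
    fun t => rho (W_UU C (ULift.up ∘ t)).ge (toO ι _ (y (ULift.up ∘ t)))
  obtain ⟨z', hz', hzy⟩ := exists_coboundary C ha m p y' (isCoch_of C ι m hP y) fun t => by
    have h0 := congrArg (rho (W_UU C (ULift.up ∘ t)).ge)
      ((congrArg (toO ι _) (congrFun hy (ULift.up ∘ t))).trans (map_zero _))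
    rw [toO_cxd, map_sum, map_zero] at h0
    refine Eq.trans (Finset.sum_congr rfl fun j _ => ?_) h0
    rw [map_zsmul]
    refine congrArg ((-1 : ℤ) ^ (j : ℕ) • ·) ?_
    show rho _ (rho _ _) = _
    rw [rho_rho, rho_rho]
    rfl
  have hex : ∀ b : Fin (p + 1) → ULift.{u} (Fin (n + 1)), ∃ z, toO (f := f) ι _ z =
      rho (W_UU C b).le (z' fun k => (b k).down) := by
    intro b
    refine (hP.range _ ((b 0).down) (mem_rng (fun k => (b k).down)) _ (W_UU C b) _).2 ?_
    have h := Ideal.mem_map_of_mem (rho (W_UU C b).le) (hz' fun k => (b k).down)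
    rw [Ideal.map_span, Set.image_singleton, map_pow,
      show rho (W_UU C b).le (phi f _ (a (b 0).down)) = phi f (BCCoh.W (UU C) b) (a (b 0).down) from
        RingHom.congr_fun (phi_res f (W_UU C b).le) _] at h
    exact h
  choose z hz using hex
  refine ⟨z, funext fun b => hP.inj _ ?_⟩
  have h := congrArg (rho (W_UU C b).le) (hzy fun k => (b k).down)
  rw [show rho (W_UU C b).le (y' fun k => (b k).down) = toO ι _ (y b) from
    (rho_rho _ _ _).trans (rho_self _ _)] at h
  rw [h, toO_cxd, map_sum]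
  refine Finset.sum_congr rfl fun j _ => ?_
  rw [map_zsmul, hz]
  refine congrArg ((-1 : ℤ) ^ (j : ℕ) • ·) ?_
  show rho _ (rho _ _) = rho _ (rho _ _)
  rw [rho_rho, rho_rho]
  rfl

/-- **The higher cohomology vanishes.** -/
theorem subsingleton_HH (hP : IsPower C ι m) (hG : G.IsQuasicoherent)
    (ha : LCI.IsKoszulRegularSeq A (List.ofFn a)) (p : ℕ) : Subsingleton (Coh.HH Y G (p + 1)) := by
  obtain ⟨e, -, -⟩ := BCCoh.exists_linearEquiv f (UU C)
    (top_unique fun x _ => Opens.mem_iSup.2 (by obtain ⟨i, hi⟩ := C.cover x; exact ⟨⟨i⟩, hi⟩))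
    (fun q b => by rw [← Cech.obj_eq_iInf]; show IsAffineOpen (BCCoh.W (UU C) b)
                   rw [W_UU]; exact C.affine_W (rng_nonempty _)) (p + 1)
  haveI : Subsingleton ((BCCoh.cx f (UU C) G).homology (p + 1)) :=
    ModuleCat.subsingleton_of_isZero ((HomologicalComplex.exactAt_iff_isZero_homology _ _).1 (exactAt_cx C ι m hP ha p))
  exact (e G hG).toEquiv.subsingleton

include C in
/-- **The functions on the blow-up are those of the base.** -/
theorem bijective_toGlobal (ha : LCI.IsKoszulRegularSeq A (List.ofFn a)) :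
    Function.Bijective (phi f ⊤) := by
  refine ⟨(injective_iff_map_eq_zero _).2 fun x hx => eq_zero_of_forall C ha x fun i => ?_, fun s => ?_⟩
  · rw [← RingHom.congr_fun (phi_res f (le_top : C.V i ≤ ⊤)) x, RingHom.comp_apply, hx, map_zero]
  · obtain ⟨x, -, hxt⟩ := exists_global C ha 0 (fun t => rho (le_top : C.W (rng t) ≤ ⊤) s)
      (fun t => by rw [pow_zero, Ideal.span_singleton_one]; exact Submodule.mem_top) fun t => by
      simp only [Fin.sum_univ_two, Fin.val_zero, Fin.val_one, pow_zero, pow_one, one_smul, neg_smul]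
      rw [← sub_eq_add_neg, sub_eq_zero]
      exact (rho_rho _ _ _).trans (rho_rho _ _ _).symm
    refine ⟨x, Y.IsSheaf.section_ext fun p _ => ?_⟩
    obtain ⟨i, hi⟩ := C.cover p
    refine ⟨C.W (rng fun _ : Fin 1 => i), le_top, ?_, ?_⟩
    · rw [show rng (fun _ : Fin 1 => i) = {i} from rfl, C.W_singleton]
      exact hi
    · exact (RingHom.congr_fun (phi_res f (le_top : C.W (rng fun _ : Fin 1 => i) ≤ ⊤)) x).trans (hxt _).symm

end

end GrothLib.BlowCoh8
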